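import Cfsg.Agent.Classical.TensorMax.Rad

/-! A group containing more of the radical than the root group is the special linear group. -/

set_option autoImplicit false
set_option linter.unusedSectionVars false
set_option linter.unusedSimpArgs false
set_option linter.unusedVariables false

namespace Cfsg.Lib.Classical.TensorMax

open Matrix Finset
open scoped Kronecker MatrixGroups
open Cfsg.Lib.Classical.LinOne (One)

universe u

variable {α β : Type} [Fintype α] [DecidableEq α] [Fintype β] [DecidableEq β] [Nonempty α] [Nonempty β]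
  {F : Type u} [Field F] {X : Subgroup (GL (α × β) F)} {j₀ : β}

theorem one_kron_sinTr_mulVec (m m' : β) (c : F) (i : α) (k : β) (d : F) :
    ((1 : Matrix α α F) ⊗ₖ (1 + Matrix.single m m' c)) *ᵥ (Pi.single (i, k) d : α × β → F) =
      Pi.single (i, k) d + (if k = m' then Pi.single (i, m) (c * d) else 0) := by
  rw [one_kron_add, add_mulVec, one_mulVec]
  congr 1
  ext ⟨x, y⟩
  rw [mulVec_single, Pi.smul_apply, col_apply, kroneckerMap_apply, MulOpposite.smul_eq_mul_unop,
    MulOpposite.unop_op]
  by_cases hk : k = m'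
  · subst hk
    rw [if_pos rfl]
    by_cases hx : x = i
    · subst hx
      by_cases hy : y = m
      · subst hy; simp
      · rw [single_apply_of_ne m k c y k (fun h => hy h.1.symm), Pi.single_eq_of_ne (fun h => hy (congrArg Prod.snd h))]
        ring
    · rw [one_apply_ne hx, Pi.single_eq_of_ne (fun h => hx (congrArg Prod.fst h))]
      ring
  · rw [if_neg hk, single_apply_of_ne m m' c y k (fun h => hk h.2.symm), Pi.zero_apply]
    ring

theorem vecMul_one_kron_sinTr (m m' : β) (c : F) (i : α) (k : β) :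
    (Pi.single (i, k) (1 : F) : α × β → F) ᵥ* ((1 : Matrix α α F) ⊗ₖ (1 + Matrix.single m m' c)) =
      Pi.single (i, k) 1 + (if k = m then Pi.single (i, m') c else 0) := by
  rw [one_kron_add, vecMul_add, vecMul_one]
  congr 1
  ext ⟨x, y⟩
  rw [single_vecMul, Pi.smul_apply, row_apply, kroneckerMap_apply, smul_eq_mul, one_mul]
  by_cases hk : k = m
  · subst hk
    rw [if_pos rfl]
    by_cases hx : x = i
    · subst hx
      by_cases hy : y = m'
      · subst hy; simp
      · rw [single_apply_of_ne k m' c k y (fun h => hy h.2.symm), Pi.single_eq_of_ne (fun h => hy (congrArg Prod.snd h))]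
        ring
    · rw [one_apply_ne (Ne.symm hx), Pi.single_eq_of_ne (fun h => hx (congrArg Prod.fst h))]
      ring
  · rw [if_neg hk, single_apply_of_ne m m' c k y (fun h => hk h.1.symm), Pi.zero_apply]
    ring

theorem rad_single_single (i l : α) {m : β} (hm : m ≠ j₀) (c : F) :
    rad j₀ (Pi.single m (c • Matrix.single i l (1 : F))) =
      vecMulVec (Pi.single (i, j₀) c) (Pi.single (l, m) (1 : F)) := by
  ext ⟨x, k⟩ ⟨y, n⟩
  rw [rad_apply, vecMulVec_apply]
  by_cases hn : n = m
  · subst hn
    by_cases hk : k = j₀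
    · subst hk
      rw [if_pos ⟨rfl, hm⟩, Pi.single_eq_same, Matrix.smul_apply, smul_eq_mul]
      by_cases hx : x = i <;> by_cases hy : y = l <;> simp_all [Matrix.single_apply, eq_comm]
    · rw [if_neg (fun h => hk h.1), Pi.single_eq_of_ne (fun h => hk (congrArg Prod.snd h)), zero_mul]
  · rw [Pi.single_eq_of_ne (show (y, n) ≠ (l, m) from fun h => hn (congrArg Prod.snd h)), mul_zero, Pi.single_eq_of_ne hn]
    split <;> rfl

/-- A radical element whose blocks are not all scalar forces all transvections. -/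
theorem specialLinear_le_of_radical (hX : Over X) (hβ : 3 ≤ Fintype.card β)
    (hn : 3 ≤ Fintype.card α ∨ ∃ c : F, c ≠ 0 ∧ c ≠ 1) (hα : 2 ≤ Fintype.card α) {Y : β → Matrix α α F}
    (hY : InK X j₀ Y) {m₁ : β} (hm₁ : m₁ ≠ j₀) (hns : ∀ c : F, Y m₁ ≠ c • (1 : Matrix α α F)) :
    Cfsg.Geo.specialLinear (α × β) F ≤ X := by
  classical
  obtain ⟨m₂, hm₂₁, hm₂⟩ := Cfsg.Lib.Classical.exists_third hβ m₁ j₀
  -- the submodule of blocks available in column `m₂`
  let S : Submodule F (Matrix α α F) :=
    { carrier := {Z | ∀ c : F, InK X j₀ (Pi.single m₂ (c • Z))}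
      zero_mem' := fun c => by rw [smul_zero, Pi.single_zero]; exact InK.zero
      add_mem' := fun {Z Z'} hZ hZ' c => by rw [smul_add, Pi.single_add]; exact (hZ c).add (hZ' c)
      smul_mem' := fun d Z hZ c => by rw [smul_smul]; exact hZ (c * d) }
  have hYS : Y m₁ ∈ S := fun c => hY.spread hX hm₁ hm₂ (Ne.symm hm₂₁) c
  have h1S : (1 : Matrix α α F) ∈ S := fun c => by
    have := InK.scalar (X := X) (j₀ := j₀) hX (Pi.single m₂ c)
    convert this using 1
    funext m
    rcases eq_or_ne m m₂ with rfl | hm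
    · rw [Pi.single_eq_same, Pi.single_eq_same]
    · rw [Pi.single_eq_of_ne hm, Pi.single_eq_of_ne hm, zero_smul]
  have hinv : ∀ i j : α, i ≠ j → ∀ c : F, ∀ Z ∈ S,
      (1 + Matrix.single i j c) * Z * (1 + Matrix.single i j (-c)) ∈ S := by
    intro i j hij c Z hZ d
    have := (hZ d).conjLeft hX (1 + Matrix.single i j c) (1 + Matrix.single i j (-c))
      (Matrix.det_transvection_of_ne i j hij c) (by rw [single_sq hij, add_neg_cancel, Matrix.single_zero, add_zero])
    convert this using 1
    funext m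
    rcases eq_or_ne m m₂ with rfl | hm
    · rw [Pi.single_eq_same, Pi.single_eq_same, mul_smul_comm, smul_mul_assoc]
    · rw [Pi.single_eq_of_ne hm, Pi.single_eq_of_ne hm, mul_zero, zero_mul]
  have hS := single_mem_of_invariant hn S hinv h1S hYS hns
  -- elementary transvections with centre in the block of `j₀`
  have h0 : ∀ i l : α, i ≠ l → ∀ m, m ≠ j₀ → ∀ c : F, One X (Pi.single (i, j₀) c) (Pi.single (l, m) 1) := by
    intro i l hil m hm c
    obtain ⟨g, hg, e⟩ : InK X j₀ (Pi.single m (c • Matrix.single i l (1 : F))) := by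
      rcases eq_or_ne m m₂ with rfl | hne
      · exact hS i l hil c
      · have := InK.spread hX (hS i l hil c) hm₂ hm (Ne.symm hne) 1
        rwa [Pi.single_eq_same, one_smul] at this
    exact ⟨g, hg, by rw [e, rad_single_single i l hm c]⟩
  have hdot : ∀ (p q : α × β) (c : F), p ≠ q → (Pi.single q (1 : F) : α × β → F) ⬝ᵥ Pi.single p c = 0 := by
    intro p q c hpq
    rw [single_dotProduct, one_mul, Pi.single_eq_of_ne (Ne.symm hpq)]
  -- move the centre
  have h1 : ∀ i l : α, i ≠ l → ∀ j m, m ≠ j → m ≠ j₀ → ∀ c : F, One X (Pi.single (i, j) c) (Pi.single (l, m) 1) := by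
    intro i l hil j m hmj hm c
    rcases eq_or_ne j j₀ with rfl | hj
    · exact h0 i l hil m hm c
    obtain ⟨k, hk, hkv, hki⟩ := hX.kron_mem 1 (1 + Matrix.single j j₀ 1) det_one
      (Matrix.det_transvection_of_ne j j₀ hj 1)
    have h := (h0 i l hil m hm c).conj hk
    rw [hkv, hki 1 (1 + Matrix.single j j₀ (-1)) (one_mul 1)
      (by rw [single_sq hj, add_neg_cancel, Matrix.single_zero, add_zero]), one_kron_sinTr_mulVec, if_pos rfl,
      vecMul_one_kron_sinTr, if_neg hmj, add_zero, one_mul] at h
    have hd := hdot (i, j₀) (l, m) c (fun e => hm (congrArg Prod.snd e).symm)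
    have h2 := h.addL ((h0 i l hil m hm c).negL hd) (by rw [dotProduct_neg, hd, neg_zero])
    rwa [add_neg_cancel_comm] at h2
  -- move the axis
  have h2 : ∀ i l : α, i ≠ l → ∀ j m, m ≠ j → ∀ c : F, One X (Pi.single (i, j) c) (Pi.single (l, m) 1) := by
    intro i l hil j m hmj c
    rcases eq_or_ne m j₀ with rfl | hm
    swap
    · exact h1 i l hil j m hmj hm c
    obtain ⟨t, htj, htm⟩ := Cfsg.Lib.Classical.exists_third hβ j m
    obtain ⟨k, hk, hkv, hki⟩ := hX.kron_mem 1 (1 + Matrix.single t m 1) det_one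
      (Matrix.det_transvection_of_ne t m htm 1)
    have h := (h1 i l hil j t htj htm c).conj hk
    rw [hkv, hki 1 (1 + Matrix.single t m (-1)) (one_mul 1)
      (by rw [single_sq htm, add_neg_cancel, Matrix.single_zero, add_zero]), one_kron_sinTr_mulVec,
      if_neg (Ne.symm hmj), add_zero, vecMul_one_kron_sinTr, if_pos rfl] at h
    have hd := hdot (i, j) (l, t) c (fun e => htj (congrArg Prod.snd e).symm)
    have hd' := hdot (i, j) (l, m) c (fun e => hmj (congrArg Prod.snd e).symm)
    have h3 := ((h1 i l hil j t htj htm c).neg hd).addR h (by rw [neg_dotProduct, hd, neg_zero])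
    rw [neg_add_cancel_left, Pi.single_neg] at h3
    have h4 := h3.neg (by rw [neg_dotProduct, hd', neg_zero])
    rwa [neg_neg] at h4
  -- commutators
  have comb : ∀ p r q : α × β, p ≠ r → r ≠ q → p ≠ q →
      (∀ c : F, One X (Pi.single p c) (Pi.single r 1)) → (∀ c : F, One X (Pi.single r c) (Pi.single q 1)) →
      ∀ c : F, One X (Pi.single p c) (Pi.single q 1) := by
    intro p r q hpr hrq hpq hA hB c
    have := (hA c).comm_left (hB 1) (hdot p r c hpr) (hdot r q 1 hrq) (hdot p q c hpq)
    rwa [single_dotProduct, Pi.single_eq_same, one_mul, one_smul] at this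
  have h3 : ∀ i l : α, ∀ j m, m ≠ j → ∀ c : F, One X (Pi.single (i, j) c) (Pi.single (l, m) 1) := by
    intro i l j m hmj
    rcases eq_or_ne i l with rfl | hil
    · obtain ⟨s, hs⟩ := Fintype.exists_ne_of_one_lt_card (α := α) (by omega) i
      obtain ⟨t, htj, htm⟩ := Cfsg.Lib.Classical.exists_third hβ j m
      exact comb (i, j) (s, t) (i, m) (fun e => htj (congrArg Prod.snd e).symm)
        (fun e => htm (congrArg Prod.snd e)) (fun e => hmj (congrArg Prod.snd e).symm)
        (h2 i s (Ne.symm hs) j t htj) (h2 s i hs t m (Ne.symm htm))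
    · exact h2 i l hil j m hmj
  refine Cfsg.Lib.Classical.LinOne.specialLinear_le fun p q hpq c => ?_
  obtain ⟨i, j⟩ := p
  obtain ⟨l, m⟩ := q
  rcases eq_or_ne m j with rfl | hmj
  · obtain ⟨t, ht, -⟩ := Cfsg.Lib.Classical.exists_third hβ m m
    exact comb (i, m) (l, t) (l, m) (fun e => ht (congrArg Prod.snd e).symm) (fun e => ht (congrArg Prod.snd e)) hpq
      (h3 i l m t ht) (h3 l l t m (Ne.symm ht)) c
  · exact h3 i l j m hmj c

end Cfsg.Lib.Classical.TensorMax
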