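import Cfsg.Agent.Classical.TensorMax.Small
import Cfsg.Agent.Classical.TensorMax.Big

/-! The stabiliser of a tensor decomposition is maximal in the special linear group. -/

set_option autoImplicit false
set_option linter.unusedSectionVars false
set_option linter.unusedSimpArgs false

namespace Cfsg.Lib.Classical.TensorMax

open Matrix Finset
open scoped Kronecker MatrixGroups

universe u

variable {α β : Type} [Fintype α] [DecidableEq α] [Fintype β] [DecidableEq β] [Nonempty α] [Nonempty β]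
  {F : Type u} [Field F]

theorem isMaximalIn_map {G H : Type*} [Group G] [Group H] (φ : G ≃* H) {K M : Subgroup G}
    (h : Cfsg.Geo.IsMaximalIn K M) : Cfsg.Geo.IsMaximalIn (K.map φ.toMonoidHom) (M.map φ.toMonoidHom) := by
  obtain ⟨hlt, hmax⟩ := h
  refine ⟨Subgroup.map_lt_map_iff_of_injective (f := φ.toMonoidHom) φ.injective |>.mpr hlt, fun N h₁ h₂ => ?_⟩
  have e : (N.comap φ.toMonoidHom).map φ.toMonoidHom = N := Subgroup.map_comap_eq_self_of_surjective φ.surjective N
  rcases hmax (N.comap φ.toMonoidHom) (Subgroup.map_le_iff_le_comap.mp h₁)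
    (by rw [← Subgroup.comap_map_eq_self_of_injective (f := φ.toMonoidHom) φ.injective K]
        exact Subgroup.comap_mono h₂) with hN | hN
  · exact Or.inl (by rw [← e, hN])
  · exact Or.inr (by rw [← e, hN])

theorem mem_specialLinear {ι : Type} [Fintype ι] [DecidableEq ι] (g : GL ι F) :
    g ∈ Cfsg.Geo.specialLinear ι F ↔ (g : Matrix ι ι F).det = 1 := by
  rw [Cfsg.Geo.specialLinear, MonoidHom.mem_ker, Units.ext_iff, Matrix.GeneralLinearGroup.val_det_apply, Units.val_one]

theorem kronSL_lt (hα : 2 ≤ Fintype.card α) (hβ : 2 ≤ Fintype.card β) :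
    kronSL α β F < Cfsg.Geo.specialLinear (α × β) F := by
  refine lt_of_le_of_ne (fun g hg => (mem_specialLinear g).mpr hg.2) fun h => ?_
  obtain ⟨i₀, i₁, hi⟩ := Fintype.exists_pair_of_one_lt_card (α := α) (by omega)
  obtain ⟨j₀, j₁, hj⟩ := Fintype.exists_pair_of_one_lt_card (α := β) (by omega)
  have hne : ((i₀, j₀) : α × β) ≠ (i₁, j₁) := fun e => hi (congrArg Prod.fst e)
  have hdet : (Matrix.transvection ((i₀, j₀) : α × β) (i₁, j₁) (1 : F)).det = 1 := Matrix.det_transvection_of_ne _ _ hne _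
  set g : GL (α × β) F := Matrix.GeneralLinearGroup.mkOfDetNeZero
    (Matrix.transvection ((i₀, j₀) : α × β) (i₁, j₁) (1 : F)) (by rw [hdet]; exact one_ne_zero)
  have hg : g ∈ kronSL α β F := by
    rw [h]
    exact (mem_specialLinear g).mpr hdet
  obtain ⟨v, w, e⟩ := hg.1.mulVec_pure (Pi.single i₁ 1) (Pi.single j₁ 1)
  have hgv : (g : Matrix (α × β) (α × β) F) = 1 + Matrix.single (i₀, j₀) (i₁, j₁) 1 := rfl
  rw [pure_single, hgv, add_mulVec, one_mulVec, mulVec_single_one] at e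
  have e1 := congrFun e (i₁, j₁)
  have e2 := congrFun e (i₀, j₀)
  have e3 := congrFun e (i₁, j₀)
  simp [pure_apply, Matrix.single_apply, Matrix.col_apply, hi, hj, Ne.symm hi, Ne.symm hj] at e1 e2 e3
  rcases e3 with e3 | e3
  · rw [e3, zero_mul] at e1
    exact one_ne_zero e1
  · rw [e3, mul_zero] at e2
    exact one_ne_zero e2

/-- The Kronecker products of determinant one form a maximal subgroup of the special linear group. -/
theorem isMaximalIn_kronSL [Finite F] (hα : 2 ≤ Fintype.card α) (hlt : Fintype.card α < Fintype.card β)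
    (hn : 3 ≤ Fintype.card α ∨ ∃ c : F, c ≠ 0 ∧ c ≠ 1) :
    Cfsg.Geo.IsMaximalIn (Cfsg.Geo.specialLinear (α × β) F) (kronSL α β F) := by
  refine ⟨kronSL_lt hα (by omega), fun M h₁ h₂ => ?_⟩
  have hX : Over M := ⟨fun g hk hd => h₁ ⟨hk, hd⟩, fun g hg => (mem_specialLinear g).mp (h₂ hg)⟩
  obtain ⟨j₀⟩ := ‹Nonempty β›
  let p := ringChar F
  haveI : Fact p.Prime := ⟨CharP.char_is_prime F p⟩
  by_cases hA : RadScalar M j₀
  · exact Or.inl (le_antisymm (fun g hg => ⟨kron_of_radScalar hX hA hα hlt hg, hX.det g hg⟩) h₁)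
  · refine Or.inr (le_antisymm h₂ ?_)
    unfold RadScalar at hA
    push Not at hA
    obtain ⟨Y, hY, m, hm, hns⟩ := hA
    exact specialLinear_le_of_radical hX (by omega) hn hα hY hm hns

theorem isMaximalIn_tensorProduct [Finite F] {ι : Type} [Fintype ι] [DecidableEq ι] (n₁ n₂ : ℕ) (h1 : 2 ≤ n₁)
    (h12 : n₁ < n₂) (hn : 3 ≤ n₁ ∨ ∃ c : F, c ≠ 0 ∧ c ≠ 1) (e : ι ≃ Fin n₁ × Fin n₂) (P : GL ι F) :
    Cfsg.Geo.IsMaximalIn (Cfsg.Geo.specialLinear ι F)
      (Cfsg.Geo.tensorProductSubgroup n₁ n₂ e P ⊓ Cfsg.Geo.specialLinear ι F) := by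
  haveI : Nonempty (Fin n₁) := Fin.pos_iff_nonempty.mp (by omega)
  haveI : Nonempty (Fin n₂) := Fin.pos_iff_nonempty.mp (by omega)
  let φ : GL (Fin n₁ × Fin n₂) F ≃* GL ι F := (Cfsg.Geo.glReindex e.symm).trans (MulAut.conj P)
  have hdet : ∀ g, ((φ g : GL ι F) : Matrix ι ι F).det = (g : Matrix (Fin n₁ × Fin n₂) (Fin n₁ × Fin n₂) F).det := by
    intro g
    show ((P * Cfsg.Geo.glReindex e.symm g * P⁻¹ : GL ι F) : Matrix ι ι F).det = _
    rw [Units.val_mul, Units.val_mul, det_mul, det_mul, mul_comm _ (Matrix.det _), ← mul_assoc, ← det_mul,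
      ← Units.val_mul, inv_mul_cancel, Units.val_one, det_one, one_mul]
    exact Matrix.det_reindex_self e.symm _
  have hSL : (Cfsg.Geo.specialLinear (Fin n₁ × Fin n₂) F).map φ.toMonoidHom = Cfsg.Geo.specialLinear ι F := by
    ext g
    rw [Subgroup.mem_map_equiv, mem_specialLinear, mem_specialLinear, ← hdet, MulEquiv.apply_symm_apply]
  have hK : (kronSL (Fin n₁) (Fin n₂) F).map φ.toMonoidHom =
      Cfsg.Geo.tensorProductSubgroup n₁ n₂ e P ⊓ Cfsg.Geo.specialLinear ι F := by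
    have e0 : kronSL (Fin n₁) (Fin n₂) F =
        Cfsg.Geo.kroneckerSubgroup n₁ n₂ F ⊓ Cfsg.Geo.specialLinear (Fin n₁ × Fin n₂) F := by
      ext g
      rw [Subgroup.mem_inf, mem_specialLinear]
      rfl
    rw [e0, Subgroup.map_inf _ _ _ φ.injective, hSL, Cfsg.Geo.tensorProductSubgroup, Subgroup.map_map]
    rfl
  have := isMaximalIn_map φ (isMaximalIn_kronSL (F := F) (α := Fin n₁) (β := Fin n₂)
    (by rw [Fintype.card_fin]; omega) (by rw [Fintype.card_fin, Fintype.card_fin]; omega)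
    (by rw [Fintype.card_fin]; exact hn))
  rwa [hSL, hK] at this

end Cfsg.Lib.Classical.TensorMax
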