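import Mathlib
import Cfsg.Prelude.Def_GeometricClasses
import Cfsg.Agent.Classical.Linear.RankOne

/-! Tensor products of two coordinate spaces: pure vectors, Kronecker actions, root elements. -/

set_option autoImplicit false
set_option linter.unusedSectionVars false
set_option linter.unusedSimpArgs false

namespace Cfsg.Lib.Classical.TensorMax

open Matrix Finset
open scoped Kronecker MatrixGroups

universe u

variable {α β : Type} [Fintype α] [DecidableEq α] [Fintype β] [DecidableEq β] {F : Type u} [Field F]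

/-- The pure tensor `v ⊗ w`. -/
def pure (v : α → F) (w : β → F) : α × β → F := fun x => v x.1 * w x.2

theorem pure_apply (v : α → F) (w : β → F) (i : α) (k : β) : pure v w (i, k) = v i * w k := rfl

theorem kron_mulVec_pure (a : Matrix α α F) (b : Matrix β β F) (v : α → F) (w : β → F) :
    (a ⊗ₖ b) *ᵥ pure v w = pure (a *ᵥ v) (b *ᵥ w) := by
  ext ⟨i, k⟩
  simp only [mulVec, dotProduct, pure_apply, kroneckerMap_apply, Fintype.sum_prod_type, Finset.sum_mul_sum]
  exact Finset.sum_congr rfl fun x _ => Finset.sum_congr rfl fun y _ => by ring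

theorem pure_single (i : α) (k : β) (c : F) :
    pure (Pi.single i c) (Pi.single k (1 : F)) = Pi.single (i, k) c := by
  ext ⟨x, y⟩
  rw [pure_apply]
  rcases eq_or_ne x i with rfl | hx <;> rcases eq_or_ne y k with rfl | hy <;> simp [*]

theorem pure_ne_zero {v : α → F} {w : β → F} (hv : v ≠ 0) (hw : w ≠ 0) : pure v w ≠ 0 := by
  obtain ⟨i, hi⟩ := Function.ne_iff.mp hv
  obtain ⟨k, hk⟩ := Function.ne_iff.mp hw
  exact fun h => mul_ne_zero hi hk (congrFun h (i, k))

theorem pure_eq_zero {v : α → F} {w : β → F} (h : pure v w = 0) : v = 0 ∨ w = 0 := by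
  by_contra hh
  rw [not_or] at hh
  exact pure_ne_zero hh.1 hh.2 h

theorem pure_zero_left (w : β → F) : pure (0 : α → F) w = 0 := by ext ⟨i, k⟩; simp [pure_apply]

theorem pure_zero_right (v : α → F) : pure v (0 : β → F) = 0 := by ext ⟨i, k⟩; simp [pure_apply]

theorem pure_add_left (v v' : α → F) (w : β → F) : pure (v + v') w = pure v w + pure v' w := by
  ext ⟨i, k⟩; simp [pure_apply, add_mul]

theorem pure_add_right (v : α → F) (w w' : β → F) : pure v (w + w') = pure v w + pure v w' := by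
  ext ⟨i, k⟩; simp [pure_apply, mul_add]

theorem pure_smul_left (c : F) (v : α → F) (w : β → F) : pure (c • v) w = c • pure v w := by
  ext ⟨i, k⟩; simp [pure_apply, mul_assoc]

theorem pure_smul_right (c : F) (v : α → F) (w : β → F) : pure v (c • w) = c • pure v w := by
  ext ⟨i, k⟩; simp only [pure_apply, Pi.smul_apply, smul_eq_mul]; ring

/-- The linear map `w ↦ v ⊗ w`. -/
def pureR (v : α → F) : (β → F) →ₗ[F] (α × β → F) where
  toFun w := pure v w
  map_add' := pure_add_right v
  map_smul' c w := pure_smul_right c v w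

/-- The linear map `v ↦ v ⊗ w`. -/
def pureL (w : β → F) : (α → F) →ₗ[F] (α × β → F) where
  toFun v := pure v w
  map_add' v v' := pure_add_left v v' w
  map_smul' c v := pure_smul_left c v w

theorem pureR_injective {v : α → F} (hv : v ≠ 0) : Function.Injective (pureR (β := β) v) := by
  rw [← LinearMap.ker_eq_bot, LinearMap.ker_eq_bot']
  exact fun w hw => (pure_eq_zero hw).resolve_left hv

theorem pureL_injective {w : β → F} (hw : w ≠ 0) : Function.Injective (pureL (α := α) w) := by
  rw [← LinearMap.ker_eq_bot, LinearMap.ker_eq_bot']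
  exact fun v hv => (pure_eq_zero hv).resolve_right hw

/-- If two pure tensors add up to a pure tensor, they share a factor. -/
theorem shared_of_sum {v v' v'' : α → F} {w w' w'' : β → F} (hv : v ≠ 0) (hw : w ≠ 0)
    (h : pure v w + pure v' w' = pure v'' w'') : (∃ c : F, v' = c • v) ∨ ∃ c : F, w' = c • w := by
  by_cases hw' : ∃ c : F, w' = c • w
  · exact Or.inr hw'
  left
  obtain ⟨k₀, hk₀⟩ := Function.ne_iff.mp hw
  simp only [Pi.zero_apply] at hk₀
  have hk : ∃ k, w' k * w k₀ - w' k₀ * w k ≠ 0 := by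
    by_contra hh
    push Not at hh
    exact hw' ⟨w' k₀ / w k₀, funext fun k => by
      rw [Pi.smul_apply, smul_eq_mul, div_mul_eq_mul_div, eq_div_iff hk₀]
      linear_combination hh k⟩
  obtain ⟨k, hk⟩ := hk
  obtain ⟨i₀, hi₀⟩ := Function.ne_iff.mp hv
  simp only [Pi.zero_apply] at hi₀
  have e : ∀ i l, v i * w l + v' i * w' l = v'' i * w'' l := fun i l => congrFun h (i, l)
  refine ⟨v' i₀ / v i₀, funext fun i => ?_⟩
  have hkey : (v i₀ * v' i - v i * v' i₀) * (w' k * w k₀ - w' k₀ * w k) = 0 := by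
    have hdet : (v i₀ * w k₀ + v' i₀ * w' k₀) * (v i * w k + v' i * w' k) -
        (v i₀ * w k + v' i₀ * w' k) * (v i * w k₀ + v' i * w' k₀) = 0 := by
      rw [e, e, e, e]
      ring
    linear_combination hdet
  have := (mul_eq_zero.mp hkey).resolve_right hk
  rw [Pi.smul_apply, smul_eq_mul, div_mul_eq_mul_div, eq_div_iff hi₀]
  linear_combination this

/-- Elementary transvection acting on a factor. -/
def sinTr (m m' : β) (c : F) : Matrix β β F := 1 + Matrix.single m m' c

theorem det_sinTr {m m' : β} (h : m ≠ m') (c : F) : (sinTr m m' c).det = 1 :=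
  Matrix.det_transvection_of_ne m m' h c

/-- The special linear group is transitive on non-zero vectors. -/
theorem exists_sl_mulVec (h2 : 2 ≤ Fintype.card β) {x y : β → F} (hx : x ≠ 0) (hy : y ≠ 0) :
    ∃ b : Matrix β β F, b.det = 1 ∧ b *ᵥ x = y := by
  have key : ∀ x y : β → F, x ≠ 0 → LinearIndependent F ![x, y] →
      ∃ b : Matrix β β F, b.det = 1 ∧ b *ᵥ x = y := by
    intro x y _ hxy
    obtain ⟨φ, hφ1, hφ2⟩ : ∃ φ : β → F, φ ⬝ᵥ x = 1 ∧ φ ⬝ᵥ y = 1 := by
      let A : Matrix (Fin 2) β F := Matrix.of ![x, y]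
      have hA : LinearIndependent F A.row := hxy
      have hr : A.rank = 2 := by rw [hA.rank_matrix, Fintype.card_fin]
      have hsurj : Function.Surjective A.mulVecLin := by
        rw [← LinearMap.range_eq_top]
        apply Submodule.eq_top_of_finrank_eq
        rw [Module.finrank_fin_fun]
        exact hr
      obtain ⟨φ, hφ⟩ := hsurj ![1, 1]
      refine ⟨φ, ?_, ?_⟩
      · have := congrFun hφ 0
        rw [dotProduct_comm]; exact this
      · have := congrFun hφ 1
        rw [dotProduct_comm]; exact this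
    refine ⟨1 + vecMulVec (y - x) φ, ?_, ?_⟩
    · rw [LinOne.det_one', dotProduct_sub, hφ1, hφ2, sub_self, add_zero]
    · rw [LinOne.one_mulVec', hφ1, one_smul, add_sub_cancel]
  by_cases hxy : LinearIndependent F ![x, y]
  · exact key x y hx hxy
  obtain ⟨z, hz⟩ : ∃ z : β → F, z ∉ Submodule.span F {x} := by
    by_contra hh
    push Not at hh
    have htop : (Submodule.span F {x} : Submodule F (β → F)) = ⊤ := eq_top_iff.mpr fun z _ => hh z
    have := finrank_span_singleton (K := F) hx
    rw [htop, finrank_top, Module.finrank_pi] at this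
    omega
  have hxz : LinearIndependent F ![x, z] := by
    rw [LinearIndependent.pair_iff' hx]
    exact fun a ha => hz (Submodule.mem_span_singleton.mpr ⟨a, ha⟩)
  obtain ⟨c, hc⟩ : ∃ c : F, c • x = y := by
    rw [LinearIndependent.pair_iff' hx] at hxy
    push Not at hxy
    exact hxy
  have hz0 : z ≠ 0 := fun h => hz (h ▸ Submodule.zero_mem _)
  have hzy : LinearIndependent F ![z, y] := by
    rw [LinearIndependent.pair_iff' hz0]
    intro a ha
    have ha0 : a ≠ 0 := by rintro rfl; exact hy (by rw [← ha, zero_smul])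
    refine hz (Submodule.mem_span_singleton.mpr ⟨a⁻¹ * c, ?_⟩)
    rw [mul_smul, hc, ← ha, smul_smul, inv_mul_cancel₀ ha0, one_smul]
  obtain ⟨b₁, hb₁, e₁⟩ := key x z hx hxz
  obtain ⟨b₂, hb₂, e₂⟩ := key z y hz0 hzy
  exact ⟨b₂ * b₁, by rw [det_mul, hb₁, hb₂, mul_one], by rw [← mulVec_mulVec, e₁, e₂]⟩

/-- The Kronecker product of two invertible matrices. -/
noncomputable def kronGL (a : Matrix α α F) (b : Matrix β β F) (ha : a.det ≠ 0) (hb : b.det ≠ 0) : GL (α × β) F :=
  Matrix.GeneralLinearGroup.mkOfDetNeZero (a ⊗ₖ b)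
    (by rw [det_kronecker]; exact mul_ne_zero (pow_ne_zero _ ha) (pow_ne_zero _ hb))

theorem kronGL_val (a : Matrix α α F) (b : Matrix β β F) (ha : a.det ≠ 0) (hb : b.det ≠ 0) :
    (kronGL a b ha hb : Matrix (α × β) (α × β) F) = a ⊗ₖ b := rfl

/-- `g` is a Kronecker product of invertible matrices of determinant one after multiplication. -/
def IsKron (g : GL (α × β) F) : Prop :=
  ∃ (a : GL α F) (b : GL β F), (g : Matrix (α × β) (α × β) F) = (a : Matrix α α F) ⊗ₖ (b : Matrix β β F)

theorem isKron_of_mat (g : GL (α × β) F) (a : Matrix α α F) (b : Matrix β β F) [Nonempty α] [Nonempty β]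
    (h : (g : Matrix (α × β) (α × β) F) = a ⊗ₖ b) : IsKron g := by
  have hd : (g : Matrix (α × β) (α × β) F).det ≠ 0 := ((Matrix.isUnit_iff_isUnit_det _).mp g.isUnit).ne_zero
  rw [h, det_kronecker] at hd
  exact ⟨Matrix.GeneralLinearGroup.mkOfDetNeZero a (ne_zero_pow Fintype.card_ne_zero (left_ne_zero_of_mul hd)),
    Matrix.GeneralLinearGroup.mkOfDetNeZero b (ne_zero_pow Fintype.card_ne_zero (right_ne_zero_of_mul hd)), h⟩

theorem IsKron.mul {g h : GL (α × β) F} (hg : IsKron g) (hh : IsKron h) : IsKron (g * h) := by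
  obtain ⟨a, b, hg⟩ := hg
  obtain ⟨c, d, hh⟩ := hh
  exact ⟨a * c, b * d, by rw [Units.val_mul, hg, hh, Units.val_mul, Units.val_mul, mul_kronecker_mul]⟩

theorem IsKron.mulVec_pure {g : GL (α × β) F} (hg : IsKron g) (v : α → F) (w : β → F) :
    ∃ v' w', (g : Matrix (α × β) (α × β) F) *ᵥ pure v w = pure v' w' := by
  obtain ⟨a, b, hg⟩ := hg
  exact ⟨_, _, by rw [hg, kron_mulVec_pure]⟩

/-- The matrix of a root element of the second factor, minus one. -/
def rootMat (w φ : β → F) : Matrix (α × β) (α × β) F := (1 : Matrix α α F) ⊗ₖ vecMulVec w φ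

theorem rootMat_mulVec_pure (w φ : β → F) (v : α → F) (z : β → F) :
    rootMat w φ *ᵥ pure v z = pure v ((φ ⬝ᵥ z) • w) := by
  rw [rootMat, kron_mulVec_pure, one_mulVec, vecMulVec_mulVec, op_smul_eq_smul]

theorem rootMat_mulVec (w φ : β → F) (x : α × β → F) :
    rootMat w φ *ᵥ x = pure (fun i => ∑ k, φ k * x (i, k)) w := by
  ext ⟨i, k⟩
  simp only [rootMat, mulVec, dotProduct, pure_apply, kroneckerMap_apply, Fintype.sum_prod_type, Finset.sum_mul,
    one_apply, ite_mul, one_mul, zero_mul, vecMulVec_apply]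
  rw [Finset.sum_eq_single i (fun j _ hj => Finset.sum_eq_zero fun l _ => by rw [if_neg (Ne.symm hj)])
    (fun h => absurd (mem_univ i) h)]
  refine Finset.sum_congr rfl fun l _ => ?_
  rw [if_pos rfl]
  ring

theorem rootMat_mul_self {w φ : β → F} (h : φ ⬝ᵥ w = 0) :
    rootMat (α := α) w φ * rootMat w φ = 0 := by
  rw [rootMat, ← mul_kronecker_mul, one_mul, vecMulVec_mul_vecMulVec, h, zero_smul, vecMulVec_zero,
    kroneckerMap_zero_right _ (fun a => mul_zero a)]

theorem rank_rootMat_le (w φ : β → F) : (rootMat (α := α) w φ).rank ≤ Fintype.card α := by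
  have hfac : rootMat (α := α) w φ =
      (Matrix.of fun (x : α × β) (l : α) => if x.1 = l then w x.2 else 0) *
        (Matrix.of fun (l : α) (y : α × β) => if l = y.1 then φ y.2 else 0) := by
    ext ⟨i, k⟩ ⟨j, m⟩
    simp only [rootMat, kroneckerMap_apply, vecMulVec_apply, Matrix.mul_apply, Matrix.of_apply, one_apply]
    rw [Finset.sum_eq_single i (fun l _ hl => by rw [if_neg (Ne.symm hl), zero_mul])
      (fun h => absurd (mem_univ i) h), if_pos rfl]
    split <;> simp
  rw [hfac]
  exact (rank_mul_le_left _ _).trans (rank_le_card_width _)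

theorem exists_root_fixing (h : Fintype.card α < Fintype.card β) (h2 : 2 ≤ Fintype.card β) (x : α × β → F) :
    ∃ w φ : β → F, w ≠ 0 ∧ φ ≠ 0 ∧ φ ⬝ᵥ w = 0 ∧ rootMat w φ *ᵥ x = 0 := by
  let A : Matrix α β F := Matrix.of fun i k => x (i, k)
  obtain ⟨φ, hφA, hφ⟩ : ∃ φ ∈ LinearMap.ker A.mulVecLin, φ ≠ 0 := by
    refine Submodule.exists_mem_ne_zero_of_ne_bot ?_
    apply LinearMap.ker_ne_bot_of_finrank_lt
    rw [Module.finrank_pi, Module.finrank_pi]
    exact h
  let B : Matrix (Fin 1) β F := Matrix.of fun _ k => φ k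
  obtain ⟨w, hwB, hw⟩ : ∃ w ∈ LinearMap.ker B.mulVecLin, w ≠ 0 := by
    refine Submodule.exists_mem_ne_zero_of_ne_bot ?_
    apply LinearMap.ker_ne_bot_of_finrank_lt
    rw [Module.finrank_pi, Module.finrank_pi, Fintype.card_fin]
    omega
  refine ⟨w, φ, hw, hφ, congrFun (LinearMap.mem_ker.mp hwB) 0, ?_⟩
  rw [rootMat_mulVec, show (fun i => ∑ k, φ k * x (i, k)) = (0 : α → F) from funext fun i =>
    (Finset.sum_congr rfl fun k _ => mul_comm _ _).trans (congrFun (LinearMap.mem_ker.mp hφA) i), pure_zero_left]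

end Cfsg.Lib.Classical.TensorMax
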