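import Cfsg.Agent.Classical.TensorMax.Root

/-! The unipotent radical of the stabiliser of `U ⊗ w` and subgroups containing more of it than the root group. -/

set_option autoImplicit false
set_option linter.unusedSectionVars false
set_option linter.unusedSimpArgs false

namespace Cfsg.Lib.Classical.TensorMax

open Matrix Finset
open scoped Kronecker MatrixGroups

universe u

variable {α β : Type} [Fintype α] [DecidableEq α] [Fintype β] [DecidableEq β] [Nonempty α] [Nonempty β]
  {F : Type u} [Field F]

/-- A group of matrices of determinant one containing all Kronecker products of determinant one. -/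
structure Over (X : Subgroup (GL (α × β) F)) : Prop where
  kron : ∀ g, IsKron g → (g : Matrix (α × β) (α × β) F).det = 1 → g ∈ X
  det : ∀ g ∈ X, (g : Matrix (α × β) (α × β) F).det = 1

/-- The residual matrix of an element of the radical. -/
def rad (j₀ : β) (Y : β → Matrix α α F) : Matrix (α × β) (α × β) F :=
  Matrix.of fun x y => if x.2 = j₀ ∧ y.2 ≠ j₀ then Y y.2 x.1 y.1 else 0

theorem rad_apply (j₀ : β) (Y : β → Matrix α α F) (i l : α) (k n : β) :
    rad j₀ Y (i, k) (l, n) = if k = j₀ ∧ n ≠ j₀ then Y n i l else 0 := rfl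

theorem rad_add (j₀ : β) (Y Y' : β → Matrix α α F) : rad j₀ (Y + Y') = rad j₀ Y + rad j₀ Y' := by
  ext ⟨i, k⟩ ⟨l, n⟩
  rw [Matrix.add_apply, rad_apply, rad_apply, rad_apply]
  split <;> simp

theorem rad_neg (j₀ : β) (Y : β → Matrix α α F) : rad j₀ (-Y) = -rad j₀ Y := by
  ext ⟨i, k⟩ ⟨l, n⟩
  rw [Matrix.neg_apply, rad_apply, rad_apply]
  split <;> simp

theorem rad_zero (j₀ : β) : rad j₀ (0 : β → Matrix α α F) = 0 := by
  ext ⟨i, k⟩ ⟨l, n⟩
  rw [rad_apply]
  split <;> simp

theorem rad_mul_rad (j₀ : β) (Y Y' : β → Matrix α α F) : rad j₀ Y * rad j₀ Y' = 0 := by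
  ext ⟨i, k⟩ ⟨l, n⟩
  rw [Matrix.mul_apply, Matrix.zero_apply]
  refine Finset.sum_eq_zero fun x _ => ?_
  obtain ⟨x, y⟩ := x
  rw [rad_apply, rad_apply]
  by_cases hy : y = j₀
  · rw [if_neg (fun h => h.2 hy), zero_mul]
  · rw [if_neg (fun h : y = j₀ ∧ n ≠ j₀ => hy h.1), mul_zero]

theorem det_one_add_rad (j₀ : β) (Y : β → Matrix α α F) : ((1 : Matrix (α × β) (α × β) F) + rad j₀ Y).det = 1 := by
  let L : Matrix (α × β) α F := Matrix.of fun x i => if x.1 = i ∧ x.2 = j₀ then 1 else 0
  let R : Matrix α (α × β) F := Matrix.of fun i y => if y.2 ≠ j₀ then Y y.2 i y.1 else 0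
  have h1 : rad j₀ Y = L * R := by
    ext ⟨i, k⟩ ⟨l, n⟩
    rw [rad_apply, Matrix.mul_apply, Finset.sum_eq_single i
      (fun x _ hx => by simp [L, Ne.symm hx]) (fun h => absurd (mem_univ i) h)]
    simp only [L, R, Matrix.of_apply, true_and]
    by_cases hk : k = j₀ <;> simp [hk]
  have h2 : R * L = 0 := by
    ext i l
    rw [Matrix.mul_apply, Matrix.zero_apply]
    refine Finset.sum_eq_zero fun y _ => ?_
    by_cases hy : y.2 = j₀ <;> simp [L, R, hy]
  rw [h1, Matrix.det_one_add_mul_comm, h2, add_zero, det_one]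

/-- Membership of a radical element. -/
def InK (X : Subgroup (GL (α × β) F)) (j₀ : β) (Y : β → Matrix α α F) : Prop :=
  ∃ g ∈ X, (g : Matrix (α × β) (α × β) F) = 1 + rad j₀ Y

variable {X : Subgroup (GL (α × β) F)} {j₀ : β}

theorem InK.add {Y Y' : β → Matrix α α F} (h : InK X j₀ Y) (h' : InK X j₀ Y') : InK X j₀ (Y + Y') := by
  obtain ⟨g, hg, e⟩ := h
  obtain ⟨g', hg', e'⟩ := h'
  refine ⟨g * g', mul_mem hg hg', ?_⟩
  rw [Units.val_mul, e, e', mul_add, mul_one, add_mul, one_mul, rad_mul_rad, rad_add, add_zero, add_assoc]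

theorem InK.zero : InK X j₀ (0 : β → Matrix α α F) := ⟨1, one_mem X, by rw [rad_zero, add_zero, Units.val_one]⟩

theorem InK.neg {Y : β → Matrix α α F} (h : InK X j₀ Y) : InK X j₀ (-Y) := by
  obtain ⟨g, hg, e⟩ := h
  refine ⟨g⁻¹, inv_mem hg, ?_⟩
  rw [Matrix.coe_units_inv, e]
  refine Matrix.inv_eq_right_inv ?_
  rw [mul_add, mul_one, add_mul, one_mul, rad_mul_rad, add_zero, rad_neg, add_neg_cancel_right]

theorem InK.sub {Y Y' : β → Matrix α α F} (h : InK X j₀ Y) (h' : InK X j₀ Y') : InK X j₀ (Y - Y') :=
  sub_eq_add_neg Y Y' ▸ h.add h'.neg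

theorem rad_scalar (j₀ : β) (c : β → F) :
    rad j₀ (fun m => c m • (1 : Matrix α α F)) =
      rootMat (α := α) (Pi.single j₀ 1) (fun m => if m = j₀ then 0 else c m) := by
  ext ⟨i, k⟩ ⟨l, n⟩
  rw [rad_apply, rootMat, kroneckerMap_apply, vecMulVec_apply, Matrix.smul_apply, one_apply, smul_eq_mul]
  by_cases hk : k = j₀
  · subst hk
    by_cases hn : n = k
    · subst hn; simp
    · simp [hn, mul_comm]
  · simp [hk]

theorem InK.scalar (hX : Over X) (c : β → F) : InK X j₀ (fun m => c m • (1 : Matrix α α F)) := by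
  have h0 : (fun m => if m = j₀ then (0 : F) else c m) ⬝ᵥ Pi.single j₀ 1 = 0 := by
    rw [dotProduct_single, if_pos rfl, zero_mul]
  refine ⟨rootGL _ _ h0, hX.kron _ ?_ ?_, ?_⟩
  · exact isKron_of_mat _ 1 (1 + vecMulVec _ _) (by rw [rootGL_val, one_add_rootMat])
  · rw [rootGL_val, det_one_add_rootMat h0]
  · rw [rootGL_val, rad_scalar]

/-- Membership of a Kronecker product of two matrices of determinant one. -/
theorem Over.kron_mem (hX : Over X) (a : Matrix α α F) (b : Matrix β β F) (ha : a.det = 1) (hb : b.det = 1) :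
    ∃ k ∈ X, (k : Matrix (α × β) (α × β) F) = a ⊗ₖ b ∧
      ∀ a' b', a * a' = 1 → b * b' = 1 → ((k⁻¹ : GL (α × β) F) : Matrix (α × β) (α × β) F) = a' ⊗ₖ b' := by
  refine ⟨kronGL a b (by rw [ha]; exact one_ne_zero) (by rw [hb]; exact one_ne_zero),
    hX.kron _ (isKron_of_mat _ a b rfl) ?_, rfl, fun a' b' ha' hb' => ?_⟩
  · rw [kronGL_val, det_kronecker, ha, hb, one_pow, one_pow, one_mul]
  · rw [Matrix.coe_units_inv, kronGL_val]
    exact Matrix.inv_eq_right_inv (by rw [← mul_kronecker_mul, ha', hb', one_kronecker_one])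

theorem left_mul_rad (a a' : Matrix α α F) (Y : β → Matrix α α F) :
    a ⊗ₖ (1 : Matrix β β F) * rad j₀ Y * a' ⊗ₖ (1 : Matrix β β F) = rad j₀ (fun m => a * Y m * a') := by
  ext ⟨i, k⟩ ⟨l, n⟩
  rw [Matrix.mul_apply, Fintype.sum_prod_type]
  have h1 : ∀ x y, (a ⊗ₖ (1 : Matrix β β F) * rad j₀ Y) (i, k) (x, y) =
      if k = j₀ ∧ y ≠ j₀ then (a * Y y) i x else 0 := by
    intro x y
    rw [Matrix.mul_apply, Fintype.sum_prod_type]
    simp only [kroneckerMap_apply, rad_apply, one_apply, mul_ite, mul_one, mul_zero, ite_mul, zero_mul]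
    split_ifs with h
    · rw [Matrix.mul_apply]
      refine Finset.sum_congr rfl fun s _ => ?_
      rw [Finset.sum_eq_single k (fun t _ ht => ?_) (fun h => absurd (mem_univ k) h), if_pos h, if_pos rfl]
      split
      · exact if_neg (Ne.symm ht)
      · rfl
    · refine Finset.sum_eq_zero fun s _ => Finset.sum_eq_zero fun t _ => ?_
      split_ifs with h2 h3
      · exact absurd ⟨h3.trans h2.1, h2.2⟩ h
      · rfl
      · rfl
  rw [rad_apply]
  simp only [h1, kroneckerMap_apply, one_apply, mul_ite, mul_one, mul_zero, ite_mul, zero_mul]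
  split_ifs with h
  · rw [Matrix.mul_apply]
    refine Finset.sum_congr rfl fun s _ => ?_
    rw [Finset.sum_eq_single n (fun t _ ht => if_neg ht) (fun h => absurd (mem_univ n) h), if_pos rfl, if_pos h]
  · refine Finset.sum_eq_zero fun s _ => Finset.sum_eq_zero fun t _ => ?_
    split_ifs with h2 h3
    · exact absurd ⟨h3.1, h2 ▸ h3.2⟩ h
    · rfl
    · rfl

theorem InK.conjLeft (hX : Over X) {Y : β → Matrix α α F} (h : InK X j₀ Y) (a a' : Matrix α α F)
    (ha : a.det = 1) (haa : a * a' = 1) : InK X j₀ (fun m => a * Y m * a') := by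
  obtain ⟨g, hg, e⟩ := h
  obtain ⟨k, hk, hkv, hki⟩ := hX.kron_mem a 1 ha det_one
  refine ⟨k * g * k⁻¹, mul_mem (mul_mem hk hg) (inv_mem hk), ?_⟩
  rw [Units.val_mul, Units.val_mul, hki a' 1 haa (one_mul 1), hkv, e, mul_add, mul_one, add_mul, ← mul_kronecker_mul, haa,
    one_mul, one_kronecker_one, left_mul_rad]

theorem rad_mul_single {Y : β → Matrix α α F} {m m' : β} (hm : m ≠ j₀) (hm' : m' ≠ j₀) (c : F) :
    rad j₀ Y * ((1 : Matrix α α F) ⊗ₖ Matrix.single m m' c) = rad j₀ (Pi.single m' (c • Y m)) := by
  ext ⟨i, k⟩ ⟨l, n⟩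
  rw [Matrix.mul_apply, rad_apply, Finset.sum_eq_single (l, m) ?_ (fun h => absurd (mem_univ _) h)]
  · rw [rad_apply, kroneckerMap_apply, one_apply_eq, one_mul]
    by_cases hk : k = j₀
    · rw [if_pos ⟨hk, hm⟩]
      by_cases hn : n = m'
      · subst hn
        rw [if_pos ⟨hk, hm'⟩, Matrix.single_apply_same, Pi.single_eq_same, Matrix.smul_apply, smul_eq_mul, mul_comm]
      · rw [Matrix.single_apply_of_ne m m' c m n (fun h => hn h.2.symm), mul_zero, Pi.single_eq_of_ne hn]
        split <;> rfl
    · rw [if_neg (fun h => hk h.1), if_neg (fun h => hk h.1), zero_mul]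
  · rintro ⟨x, y⟩ _ hxy
    rw [kroneckerMap_apply]
    by_cases hx : x = l
    · rw [Matrix.single_apply_of_ne m m' c y n (fun h => hxy (by rw [hx, h.1])), mul_zero, mul_zero]
    · rw [one_apply_ne hx, zero_mul, mul_zero]

theorem single_mul_rad {Y : β → Matrix α α F} {m m' : β} (hm' : m' ≠ j₀) (c : F) :
    ((1 : Matrix α α F) ⊗ₖ Matrix.single m m' c) * rad j₀ Y = 0 := by
  ext ⟨i, k⟩ ⟨l, n⟩
  rw [Matrix.mul_apply, Matrix.zero_apply]
  refine Finset.sum_eq_zero fun x _ => ?_
  obtain ⟨x, y⟩ := x
  rw [rad_apply, kroneckerMap_apply]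
  by_cases hy : y = j₀
  · rw [Matrix.single_apply_of_ne m m' c k y (fun h => hm' (h.2.trans hy)), mul_zero, zero_mul]
  · rw [if_neg (fun h => hy h.1), mul_zero]

theorem single_sq {m m' : β} (h : m ≠ m') (c d : F) :
    ((1 : Matrix β β F) + Matrix.single m m' c) * (1 + Matrix.single m m' d) = 1 + Matrix.single m m' (c + d) := by
  rw [mul_add, mul_one, add_mul, one_mul, single_mul_single_of_ne _ _ _ _ h.symm, add_zero, Matrix.single_add, add_assoc]

theorem InK.spread (hX : Over X) {Y : β → Matrix α α F} (h : InK X j₀ Y) {m m' : β} (hm : m ≠ j₀) (hm' : m' ≠ j₀)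
    (hne : m ≠ m') (c : F) : InK X j₀ (Pi.single m' (c • Y m)) := by
  have hnew : InK X j₀ (Y + Pi.single m' ((-c) • Y m)) := by
    obtain ⟨g, hg, e⟩ := h
    obtain ⟨k, hk, hkv, hki⟩ := hX.kron_mem 1 (1 + Matrix.single m m' c) det_one
      (Matrix.det_transvection_of_ne m m' hne c)
    refine ⟨k * g * k⁻¹, mul_mem (mul_mem hk hg) (inv_mem hk), ?_⟩
    have hinv : ((1 : Matrix β β F) + Matrix.single m m' c) * (1 + Matrix.single m m' (-c)) = 1 := by
      rw [single_sq hne, add_neg_cancel, Matrix.single_zero, add_zero]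
    rw [Units.val_mul, Units.val_mul, hki 1 _ (one_mul 1) hinv, hkv, e, mul_add, mul_one, add_mul,
      ← mul_kronecker_mul, one_mul, hinv, one_kronecker_one, one_kron_add, one_kron_add, add_mul, one_mul,
      single_mul_rad hm', add_zero, mul_add, mul_one, rad_mul_single hm hm', rad_add]
  have := h.sub hnew
  rwa [sub_add_cancel_left, neg_smul, Pi.single_neg, neg_neg] at this

/-- Conjugation by elementary transvections moves any non-scalar matrix to every elementary root matrix. -/
theorem single_mem_of_invariant (hn : 3 ≤ Fintype.card α ∨ ∃ c : F, c ≠ 0 ∧ c ≠ 1)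
    (S : Submodule F (Matrix α α F))
    (hinv : ∀ i j : α, i ≠ j → ∀ c : F, ∀ Z ∈ S, (1 + Matrix.single i j c) * Z * (1 + Matrix.single i j (-c)) ∈ S)
    (h1 : (1 : Matrix α α F) ∈ S) {Z : Matrix α α F} (hZ : Z ∈ S) (hns : ∀ c : F, Z ≠ c • (1 : Matrix α α F)) :
    ∀ i j : α, i ≠ j → Matrix.single i j (1 : F) ∈ S := by
  have hD : ∀ i j : α, i ≠ j → ∀ c : F, ∀ Z ∈ S,
      c • (Matrix.single i j (1 : F) * Z - Z * Matrix.single i j (1 : F)) - (c * c * Z j i) • Matrix.single i j (1 : F) ∈ S := by
    intro i j hij c Z hZ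
    have := S.sub_mem (hinv i j hij c Z hZ) hZ
    convert this using 1
    have e : ∀ d : F, Matrix.single i j d = d • Matrix.single i j (1 : F) := fun d => by rw [smul_single, smul_eq_mul, mul_one]
    rw [e c, e (-c), add_mul, one_mul, mul_add, mul_one, add_mul, smul_mul_assoc, mul_smul_comm,
      smul_mul_assoc, mul_smul_comm, Matrix.single_mul_mul_single, one_mul, mul_one, e (Z j i)]
    module
  have chain : ∀ i j : α, i ≠ j → Matrix.single i j (1 : F) ∈ S →
      (∀ l, l ≠ i → l ≠ j → Matrix.single l j (1 : F) ∈ S) ∧ (∀ l, l ≠ i → l ≠ j → Matrix.single i l (1 : F) ∈ S) := by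
    intro i j hij hS
    constructor
    · intro l hli hlj
      have := hD l i hli 1 _ hS
      rwa [single_mul_single_same, single_mul_single_of_ne _ _ _ _ (Ne.symm hlj),
        Matrix.single_apply_of_ne i j (1 : F) i l (fun h => hlj h.2.symm), mul_zero, zero_smul, sub_zero, sub_zero,
        one_smul, mul_one] at this
    · intro l hli hlj
      have := hD j l (Ne.symm hlj) 1 _ hS
      rw [single_mul_single_same, single_mul_single_of_ne _ _ _ _ hli,
        Matrix.single_apply_of_ne i j (1 : F) l j (fun h => hli h.1.symm), mul_zero, zero_smul, sub_zero, zero_sub,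
        one_smul, mul_one] at this
      exact neg_mem_iff.mp this
  have hone : ∃ i j : α, i ≠ j ∧ Matrix.single i j (1 : F) ∈ S := by
    by_cases hoff : ∃ i j : α, i ≠ j ∧ Z j i ≠ 0
    · obtain ⟨i, j, hij, hx⟩ := hoff
      rcases hn with h3 | ⟨c, hc0, hc1⟩
      · obtain ⟨k, hki, hkj⟩ := Cfsg.Lib.Classical.exists_third h3 i j
        have hD1 := hD i j hij 1 Z hZ
        set D := (1 : F) • (Matrix.single i j (1 : F) * Z - Z * Matrix.single i j (1 : F)) -
          (1 * 1 * Z j i) • Matrix.single i j (1 : F) with hDdef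
        have hD2 := hD i k (Ne.symm hki) 1 D hD1
        set D' := (1 : F) • (Matrix.single i k (1 : F) * D - D * Matrix.single i k (1 : F)) -
          (1 * 1 * D k i) • Matrix.single i k (1 : F) with hD'def
        have hDval : ∀ a b, D a b = (if a = i then Z j b else 0) - (if b = j then Z a i else 0) -
            (if a = i ∧ b = j then Z j i else 0) := by
          intro a b
          rw [hDdef, one_smul, one_mul, one_mul, Matrix.sub_apply, Matrix.sub_apply, Matrix.smul_apply, smul_eq_mul]
          congr 1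
          · congr 1
            · split_ifs with ha
              · subst ha; rw [single_mul_apply_same, one_mul]
              · rw [single_mul_apply_of_ne _ _ _ _ _ ha]
            · split_ifs with hb
              · subst hb; rw [mul_single_apply_same, mul_one]
              · rw [mul_single_apply_of_ne _ _ _ _ _ hb]
          · split_ifs with hab
            · rw [hab.1, hab.2, single_apply_same, mul_one]
            · rw [single_apply_of_ne _ _ _ _ _ (fun h => hab ⟨h.1.symm, h.2.symm⟩), mul_zero]
        have hki0 : D k i = 0 := by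
          rw [hDval, if_neg hki, if_neg hij, if_neg (fun h => hki h.1), sub_zero, sub_zero]
        have hD'val : D' = (-Z k i) • Matrix.single i j (1 : F) + (-Z j i) • Matrix.single i k (1 : F) := by
          rw [hD'def, hki0, one_smul, mul_zero, zero_smul, sub_zero]
          ext a b
          rw [Matrix.sub_apply, Matrix.add_apply, Matrix.smul_apply, Matrix.smul_apply, smul_eq_mul, smul_eq_mul]
          by_cases ha : a = i
          · subst ha
            rw [single_mul_apply_same, one_mul, hDval, if_neg hki, if_neg (fun h : k = a ∧ b = j => hki h.1), zero_sub, sub_zero]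
            by_cases hb : b = k
            · subst hb
              rw [mul_single_apply_same, mul_one, hDval, if_pos rfl, if_neg hij,
                if_neg (fun h : a = a ∧ a = j => hij h.2), sub_zero, sub_zero, if_neg hkj, single_apply_of_ne _ _ _ _ _ (fun h => hkj h.2.symm), single_apply_same]
              ring
            · rw [mul_single_apply_of_ne _ _ _ _ _ hb, single_apply_of_ne a k (1 : F) a b (fun h => hb h.2.symm)]
              by_cases hbj : b = j
              · subst hbj
                rw [if_pos rfl, single_apply_same]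
                ring
              · rw [if_neg hbj, single_apply_of_ne a j (1 : F) a b (fun h => hbj h.2.symm)]
                ring
          · rw [single_mul_apply_of_ne _ _ _ _ _ ha, single_apply_of_ne i j (1 : F) a b (fun h => ha h.1.symm),
              single_apply_of_ne i k (1 : F) a b (fun h => ha h.1.symm)]
            by_cases hb : b = k
            · subst hb
              rw [mul_single_apply_same, mul_one, hDval, if_neg ha, if_neg hij,
                if_neg (fun h : a = i ∧ i = j => ha h.1)]
              ring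
            · rw [mul_single_apply_of_ne _ _ _ _ _ hb]
              ring
        have hD3 := hD k j hkj 1 D' hD2
        rw [hD'val] at hD3
        have : Matrix.single k j (1 : F) * ((-Z k i) • Matrix.single i j (1 : F) + (-Z j i) • Matrix.single i k (1 : F)) -
            ((-Z k i) • Matrix.single i j (1 : F) + (-Z j i) • Matrix.single i k (1 : F)) * Matrix.single k j (1 : F) =
            Z j i • Matrix.single i j (1 : F) := by
          rw [mul_add, add_mul, mul_smul_comm, mul_smul_comm, smul_mul_assoc, smul_mul_assoc,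
            single_mul_single_of_ne _ _ _ _ (Ne.symm hij), single_mul_single_of_ne _ _ _ _ (Ne.symm hij),
            single_mul_single_of_ne _ _ _ _ (Ne.symm hkj), single_mul_single_same, mul_one]
          module
        rw [this, Matrix.add_apply, Matrix.smul_apply, Matrix.smul_apply,
          single_apply_of_ne i j (1 : F) j k (fun h => hij h.1),
          single_apply_of_ne i k (1 : F) j k (fun h => hij h.1), smul_zero, smul_zero, add_zero, mul_zero, zero_smul,
          sub_zero, one_smul] at hD3
        exact ⟨i, j, hij, (Submodule.smul_mem_iff _ hx).mp hD3⟩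
      · refine ⟨i, j, hij, ?_⟩
        have ha := hD i j hij 1 Z hZ
        have hb := hD i j hij c Z hZ
        have := S.sub_mem (S.smul_mem c ha) hb
        rw [smul_sub, smul_smul, smul_smul, mul_one, sub_sub_sub_cancel_left, ← sub_smul,
          show c * c * Z j i - c * (1 * 1 * Z j i) = c * (c - 1) * Z j i by ring] at this
        exact (Submodule.smul_mem_iff _ (mul_ne_zero (mul_ne_zero hc0 (sub_ne_zero.mpr hc1)) hx)).mp this
    · push Not at hoff
      obtain ⟨i, j, hd⟩ : ∃ i j, Z i i ≠ Z j j := by
        by_contra hh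
        push Not at hh
        obtain ⟨i₀⟩ := ‹Nonempty α›
        refine hns (Z i₀ i₀) (Matrix.ext fun a b => ?_)
        rw [Matrix.smul_apply, one_apply, smul_eq_mul]
        rcases eq_or_ne a b with rfl | hab
        · rw [if_pos rfl, mul_one, hh a i₀]
        · rw [if_neg hab, mul_zero, hoff b a hab.symm]
      have hij : i ≠ j := fun h => hd (by rw [h])
      refine ⟨i, j, hij, ?_⟩
      have := hD i j hij 1 Z hZ
      rw [hoff i j hij, mul_zero, zero_smul, sub_zero, one_smul,
        show Matrix.single i j (1 : F) * Z - Z * Matrix.single i j (1 : F) = (Z j j - Z i i) • Matrix.single i j (1 : F) by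
          ext a b
          rw [Matrix.sub_apply, Matrix.smul_apply, smul_eq_mul]
          by_cases ha : a = i
          · subst ha
            rw [single_mul_apply_same, one_mul]
            by_cases hb : b = j
            · subst hb; rw [mul_single_apply_same, mul_one, single_apply_same, mul_one]
            · rw [mul_single_apply_of_ne _ _ _ _ _ hb, single_apply_of_ne _ _ _ _ _ (fun h => hb h.2.symm),
                mul_zero, sub_zero, hoff b j hb]
          · rw [single_mul_apply_of_ne _ _ _ _ _ ha, single_apply_of_ne _ _ _ _ _ (fun h => ha h.1.symm), mul_zero]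
            by_cases hb : b = j
            · subst hb; rw [mul_single_apply_same, mul_one, hoff i a (Ne.symm ha), sub_zero]
            · rw [mul_single_apply_of_ne _ _ _ _ _ hb, sub_zero]] at this
      exact (Submodule.smul_mem_iff _ (sub_ne_zero.mpr hd.symm)).mp this
  obtain ⟨i, j, hij, hS⟩ := hone
  have flip : ∀ i j : α, i ≠ j → Matrix.single i j (1 : F) ∈ S → Matrix.single j i (1 : F) ∈ S := by
    intro i j hij hS
    rcases hn with h3 | ⟨c, hc0, hc1⟩
    · obtain ⟨l, hli, hlj⟩ := Cfsg.Lib.Classical.exists_third h3 i j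
      have h1 := (chain i j hij hS).2 l hli hlj
      have h2 := (chain i l (Ne.symm hli) h1).1 j (Ne.symm hij) (Ne.symm hlj)
      exact (chain j l (Ne.symm hlj) h2).2 i hij (Ne.symm hli)
    · have e1 := hD j i (Ne.symm hij) 1 _ hS
      have e2 := hD j i (Ne.symm hij) c _ hS
      have := S.sub_mem (S.smul_mem c e1) e2
      rw [single_apply_same, smul_sub, smul_smul, smul_smul, mul_one, mul_one, sub_sub_sub_cancel_left, ← sub_smul,
        show c * c * 1 - c * (1 * 1 : F) = c * (c - 1) by ring] at this
      exact (Submodule.smul_mem_iff _ (mul_ne_zero hc0 (sub_ne_zero.mpr hc1))).mp this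
  intro a b hab
  by_cases hbi : b = i
  · subst hbi
    by_cases haj : a = j
    · subst haj; exact flip b a hij hS
    · exact (chain j b (Ne.symm hij) (flip b j hij hS)).1 a haj hab
  · by_cases hbj : b = j
    · subst hbj
      by_cases hai : a = i
      · subst hai; exact hS
      · exact (chain i b hij hS).1 a hai hab
    · have hib := (chain i j hij hS).2 b hbi hbj
      by_cases hai : a = i
      · subst hai; exact hib
      · exact (chain i b (Ne.symm hbi) hib).1 a hai hab

end Cfsg.Lib.Classical.TensorMax
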