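import Cfsg.Agent.Classical.TensorMax.Pure

/-! Elements of prime-power order of small residual rank in a Kronecker product group are root elements. -/

set_option autoImplicit false
set_option linter.unusedSectionVars false
set_option linter.unusedSimpArgs false
set_option linter.style.haveILetI false

namespace Cfsg.Lib.Classical.TensorMax

open Matrix Finset
open scoped Kronecker MatrixGroups

universe u

variable {α β : Type} [Fintype α] [DecidableEq α] [Fintype β] [DecidableEq β] [Nonempty α] [Nonempty β]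
  {F : Type u} [Field F]

/-- A root element of the second factor. -/
def IsRoot (g : GL (α × β) F) : Prop :=
  ∃ w φ : β → F, w ≠ 0 ∧ φ ≠ 0 ∧ φ ⬝ᵥ w = 0 ∧ (g : Matrix (α × β) (α × β) F) = 1 + rootMat w φ

theorem one_kron_add (N : Matrix β β F) :
    (1 : Matrix α α F) ⊗ₖ (1 + N) = 1 + (1 : Matrix α α F) ⊗ₖ N := by
  rw [kronecker_add, one_kronecker_one]

theorem one_add_rootMat (w φ : β → F) :
    (1 : Matrix (α × β) (α × β) F) + rootMat w φ = (1 : Matrix α α F) ⊗ₖ (1 + vecMulVec w φ) := by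
  rw [one_kron_add, rootMat]

theorem det_one_add_rootMat {w φ : β → F} (h : φ ⬝ᵥ w = 0) :
    ((1 : Matrix (α × β) (α × β) F) + rootMat w φ).det = 1 := by
  rw [one_add_rootMat, det_kronecker, det_one, one_pow, one_mul, LinOne.det_one', h, add_zero, one_pow]

/-- The root element attached to `w` and `φ`. -/
noncomputable def rootGL (w φ : β → F) (h : φ ⬝ᵥ w = 0) : GL (α × β) F :=
  Matrix.GeneralLinearGroup.mkOfDetNeZero (1 + rootMat w φ)
    (by rw [det_one_add_rootMat h]; exact one_ne_zero)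

theorem rootGL_val (w φ : β → F) (h : φ ⬝ᵥ w = 0) :
    (rootGL (α := α) w φ h : Matrix (α × β) (α × β) F) = 1 + rootMat w φ := rfl

theorem isRoot_rootGL {w φ : β → F} (hw : w ≠ 0) (hφ : φ ≠ 0) (h : φ ⬝ᵥ w = 0) :
    IsRoot (rootGL (α := α) w φ h) := ⟨w, φ, hw, hφ, h, rfl⟩

theorem IsRoot.isKron {g : GL (α × β) F} (hg : IsRoot g) : IsKron g := by
  obtain ⟨w, φ, -, -, -, hv⟩ := hg
  exact isKron_of_mat g 1 (1 + vecMulVec w φ) (by rw [hv, one_add_rootMat])

theorem IsRoot.det {g : GL (α × β) F} (hg : IsRoot g) : (g : Matrix (α × β) (α × β) F).det = 1 := by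
  obtain ⟨w, φ, -, -, h, hv⟩ := hg
  rw [hv, det_one_add_rootMat h]

theorem IsRoot.rank_sub_le {g : GL (α × β) F} (hg : IsRoot g) :
    ((g : Matrix (α × β) (α × β) F) - 1).rank ≤ Fintype.card α := by
  obtain ⟨w, φ, -, -, -, hv⟩ := hg
  rw [hv, add_sub_cancel_left]
  exact rank_rootMat_le w φ

theorem IsRoot.pow_char {g : GL (α × β) F} (hg : IsRoot g) (p : ℕ) [Fact p.Prime] [CharP F p] : g ^ p = 1 := by
  obtain ⟨w, φ, -, -, h, hv⟩ := hg
  haveI : CharP (Matrix (α × β) (α × β) F) p := Matrix.charP p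
  refine Units.ext ?_
  rw [Units.val_pow_eq_pow_val, hv, add_pow_char_of_commute p (Commute.one_left _), one_pow, Units.val_one]
  have h2 : 2 ≤ p := (Fact.out : p.Prime).two_le
  obtain ⟨k, hk⟩ := Nat.exists_eq_add_of_le h2
  rw [hk, pow_add, pow_two, rootMat_mul_self h, zero_mul, add_zero]

theorem kron_pow (a : Matrix α α F) (b : Matrix β β F) (m : ℕ) : (a ⊗ₖ b) ^ m = (a ^ m) ⊗ₖ (b ^ m) := by
  induction m with
  | zero => rw [pow_zero, pow_zero, pow_zero, one_kronecker_one]
  | succ m ih => rw [pow_succ, ih, ← mul_kronecker_mul, ← pow_succ, ← pow_succ]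

theorem exists_scalar_of_kron_eq_one {a : Matrix α α F} {b : Matrix β β F} (h : a ⊗ₖ b = 1) :
    ∃ c : F, c ≠ 0 ∧ a = c • (1 : Matrix α α F) ∧ b = c⁻¹ • (1 : Matrix β β F) := by
  have e : ∀ i j k l, a i j * b k l = if i = j ∧ k = l then 1 else 0 := fun i j k l => by
    have := congrFun (congrFun h (i, k)) (j, l)
    rw [kroneckerMap_apply, one_apply] at this
    rw [this]
    simp only [Prod.mk.injEq]
  obtain ⟨i₀⟩ := ‹Nonempty α›
  obtain ⟨k₀⟩ := ‹Nonempty β›
  have h1 : a i₀ i₀ * b k₀ k₀ = 1 := by rw [e, if_pos ⟨rfl, rfl⟩]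
  have ha : a i₀ i₀ ≠ 0 := left_ne_zero_of_mul_eq_one h1
  have hb : b k₀ k₀ ≠ 0 := right_ne_zero_of_mul_eq_one h1
  have hA : a = a i₀ i₀ • (1 : Matrix α α F) := by
    ext i j
    refine mul_right_cancel₀ hb ?_
    rw [e i j k₀ k₀, Matrix.smul_apply, one_apply, smul_eq_mul]
    by_cases hij : i = j
    · rw [if_pos ⟨hij, rfl⟩, if_pos hij, mul_one, h1]
    · rw [if_neg (fun hh => hij hh.1), if_neg hij, mul_zero, zero_mul]
  refine ⟨a i₀ i₀, ha, hA, ?_⟩
  ext k l
  refine mul_left_cancel₀ ha ?_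
  rw [e i₀ i₀ k l, Matrix.smul_apply, one_apply, smul_eq_mul, ← mul_assoc, mul_inv_cancel₀ ha, one_mul]
  simp only [true_and]

theorem exists_annihilated {γ : Type} [Fintype γ] [DecidableEq γ] {ν : Matrix γ γ F}
    (h : IsNilpotent ν) (hne : ν ≠ 0) :
    ∃ x : γ → F, ν *ᵥ x ≠ 0 ∧ ν *ᵥ (ν *ᵥ x) = 0 := by
  classical
  have hex : ∃ j, ν ^ j = 0 := h
  set j := Nat.find hex with hj
  have hj0 : ν ^ j = 0 := Nat.find_spec hex
  have h2 : 2 ≤ j := by
    by_contra hh
    interval_cases j
    · apply hne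
      rw [← mul_one ν, ← pow_zero ν, hj0, mul_zero]
    · exact hne (by rwa [pow_one] at hj0)
  obtain ⟨i, hi⟩ := Nat.exists_eq_add_of_le h2
  have hlt : ν ^ (i + 1) ≠ 0 := Nat.find_min hex (show i + 1 < Nat.find hex by rw [← hj]; omega)
  obtain ⟨x, hx⟩ : ∃ x : γ → F, ν ^ (i + 1) *ᵥ x ≠ 0 := by
    by_contra hh
    push Not at hh
    exact hlt (Matrix.ext fun a b => by simpa [mulVec_single_one] using congrFun (hh (Pi.single b 1)) a)
  refine ⟨ν ^ i *ᵥ x, ?_, ?_⟩
  · rwa [mulVec_mulVec, ← pow_succ']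
  · rw [mulVec_mulVec, mulVec_mulVec, show ν * ν * ν ^ i = ν ^ j by rw [hi, pow_add, pow_two],
      hj0, zero_mulVec]

theorem card_le_rank {γ δ : Type} [Fintype γ] [Fintype δ] [DecidableEq γ] (D : Matrix γ γ F)
    (L : (δ → F) →ₗ[F] (γ → F)) (h : ∀ x, D *ᵥ L x = 0 → x = 0) : Fintype.card δ ≤ D.rank := by
  have hinj : Function.Injective (D.mulVecLin.comp L) := by
    rw [← LinearMap.ker_eq_bot, LinearMap.ker_eq_bot']
    exact h
  calc Fintype.card δ = Module.finrank F (δ → F) := (Module.finrank_pi F).symm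
    _ = Module.finrank F (LinearMap.range (D.mulVecLin.comp L)) := (LinearMap.finrank_range_of_inj hinj).symm
    _ ≤ Module.finrank F (LinearMap.range D.mulVecLin) :=
        Submodule.finrank_mono (LinearMap.range_comp_le_range _ _)

variable [Finite F]

/-- An element of `p`-power order in the Kronecker product group with residual rank at most `card α` is trivial or a
root element. -/
theorem root_of_small {p : ℕ} [Fact p.Prime] [CharP F p] (hlt : Fintype.card α < Fintype.card β)
    {g : GL (α × β) F} (hg : IsKron g) {s : ℕ} (hs : g ^ p ^ s = 1)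
    (hr : ((g : Matrix (α × β) (α × β) F) - 1).rank ≤ Fintype.card α) : g = 1 ∨ IsRoot g := by
  classical
  obtain ⟨A, B, hAB⟩ := hg
  have hN : ((A : Matrix α α F) ^ p ^ s) ⊗ₖ ((B : Matrix β β F) ^ p ^ s) = 1 := by
    rw [← kron_pow, ← hAB, ← Units.val_pow_eq_pow_val, hs, Units.val_one]
  obtain ⟨c, hc, hA, hB⟩ := exists_scalar_of_kron_eq_one hN
  haveI : ExpChar F p := ExpChar.prime Fact.out
  obtain ⟨μ, hμ⟩ := Finite.injective_iff_surjective.mp (iterateFrobenius_inj F p s) c
  rw [iterateFrobenius_def] at hμ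
  have hμ0 : μ ≠ 0 := by
    rintro rfl
    rw [zero_pow (pow_ne_zero _ (Fact.out : p.Prime).ne_zero)] at hμ
    exact hc hμ.symm
  set a := μ⁻¹ • (A : Matrix α α F) with ha
  set b := μ • (B : Matrix β β F) with hb
  have hg' : (g : Matrix (α × β) (α × β) F) = a ⊗ₖ b := by
    rw [ha, hb, smul_kronecker, kronecker_smul, smul_smul, inv_mul_cancel₀ hμ0, one_smul, hAB]
  haveI : CharP (Matrix α α F) p := Matrix.charP p
  haveI : CharP (Matrix β β F) p := Matrix.charP p
  have hna : IsNilpotent (a - 1) := ⟨p ^ s, by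
    rw [sub_pow_char_pow_of_commute p s (Commute.one_right _), one_pow, ha, smul_pow, hA, smul_smul, inv_pow, hμ,
      inv_mul_cancel₀ hc, one_smul, sub_self]⟩
  have hnb : IsNilpotent (b - 1) := ⟨p ^ s, by
    rw [sub_pow_char_pow_of_commute p s (Commute.one_right _), one_pow, hb, smul_pow, hB, smul_smul, hμ,
      mul_inv_cancel₀ hc, one_smul, sub_self]⟩
  rw [hg'] at hr
  have ha1 : a = 1 := by
    by_contra hne
    obtain ⟨x, hx, hx2⟩ := exists_annihilated hna (sub_ne_zero.mpr hne)
    have hax : a *ᵥ x = (a - 1) *ᵥ x + x := by rw [sub_mulVec, one_mulVec, sub_add_cancel]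
    set x₀ := (a - 1) *ᵥ x with hx₀
    have := card_le_rank (a ⊗ₖ b - 1) (pureR x) fun w hw => by
      change (a ⊗ₖ b - 1) *ᵥ pure x w = 0 at hw
      rw [sub_mulVec, one_mulVec, kron_mulVec_pure, hax, sub_eq_zero] at hw
      have e : ∀ k, (b *ᵥ w) k • (x₀ + x) = w k • x := fun k => funext fun i => by
        have := congrFun hw (i, k)
        simp only [pure_apply, Pi.add_apply] at this
        simp only [Pi.smul_apply, Pi.add_apply, smul_eq_mul]
        linear_combination this
      funext k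
      have h1 := congrArg ((a - 1) *ᵥ ·) (e k)
      simp only [mulVec_smul, mulVec_add, hx2, zero_add] at h1
      rw [← hx₀] at h1
      have h2 : (b *ᵥ w) k = w k := smul_left_injective F hx h1
      have h3 := e k
      rw [h2, smul_add, add_eq_right, smul_eq_zero] at h3
      exact h3.resolve_right hx
    omega
  rw [ha1] at hg' hr
  have hbν : (1 : Matrix α α F) ⊗ₖ b - 1 = (1 : Matrix α α F) ⊗ₖ (b - 1) := by
    conv_lhs => rw [show b = 1 + (b - 1) from (add_sub_cancel 1 b).symm, one_kron_add, add_sub_cancel_left]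
  rw [hbν] at hr
  by_cases hb1 : b = 1
  · left
    refine Units.ext ?_
    rw [hg', hb1, one_kronecker_one, Units.val_one]
  right
  obtain ⟨x₁, hx₁⟩ : ∃ x, (b - 1) *ᵥ x ≠ 0 := by
    by_contra hh
    push Not at hh
    exact sub_ne_zero.mpr hb1 (Matrix.ext fun i k => congrFun ((mulVec_single_one (b - 1) k).symm.trans (hh (Pi.single k 1))) i)
  set w := (b - 1) *ᵥ x₁ with hw
  have hline : ∀ x, ∃ t : F, t • w = (b - 1) *ᵥ x := by
    intro x
    by_contra hh
    push Not at hh
    let L : (α ⊕ α → F) →ₗ[F] (α × β → F) :=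
      (pureL x₁).comp (LinearMap.funLeft F F Sum.inl) + (pureL x).comp (LinearMap.funLeft F F Sum.inr)
    have := card_le_rank ((1 : Matrix α α F) ⊗ₖ (b - 1)) L fun y hy => by
      change ((1 : Matrix α α F) ⊗ₖ (b - 1)) *ᵥ
        (pure (fun i => y (Sum.inl i)) x₁ + pure (fun i => y (Sum.inr i)) x) = 0 at hy
      rw [mulVec_add, kron_mulVec_pure, kron_mulVec_pure, one_mulVec, one_mulVec, ← hw] at hy
      have e : ∀ i, y (Sum.inl i) • w + y (Sum.inr i) • ((b - 1) *ᵥ x) = 0 := fun i => funext fun k => by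
        simpa [pure_apply] using congrFun hy (i, k)
      have hi := LinearIndependent.pair_iff.mp ((LinearIndependent.pair_iff' hx₁).mpr hh)
      funext z
      rcases z with i | i
      · exact (hi _ _ (e i)).1
      · exact (hi _ _ (e i)).2
    rw [Fintype.card_sum] at this
    have := Fintype.card_pos (α := α)
    omega
  choose t ht using hline
  refine ⟨w, fun k => t (Pi.single k 1), hx₁, ?_, ?_, ?_⟩
  · intro h0
    refine sub_ne_zero.mpr hb1 (Matrix.ext fun i k => ?_)
    have := congrFun (ht (Pi.single k 1)) i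
    rw [show t (Pi.single k 1) = 0 from congrFun h0 k, zero_smul, mulVec_single_one] at this
    simpa using this.symm
  · have hν : b - 1 = vecMulVec w (fun k => t (Pi.single k 1)) := by
      ext i k
      have := congrFun (ht (Pi.single k 1)) i
      rw [mulVec_single_one, Pi.smul_apply, smul_eq_mul] at this
      rw [vecMulVec_apply, mul_comm]
      exact this.symm
    obtain ⟨m, hm⟩ := hnb
    have hpow : ∀ i, (b - 1) ^ i *ᵥ w = ((fun k => t (Pi.single k 1)) ⬝ᵥ w) ^ i • w := by
      intro i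
      induction i with
      | zero => rw [pow_zero, pow_zero, one_mulVec, one_smul]
      | succ i ih =>
        rw [pow_succ', ← mulVec_mulVec, ih, mulVec_smul, hν, vecMulVec_mulVec, op_smul_eq_smul, smul_smul, pow_succ]
    have := hpow m
    rw [hm, zero_mulVec] at this
    exact eq_zero_of_pow_eq_zero ((smul_eq_zero.mp this.symm).resolve_right hx₁)
  · rw [hg', one_add_rootMat]
    congr 1
    ext i k
    have := congrFun (ht (Pi.single k 1)) i
    rw [mulVec_single_one, Pi.smul_apply, smul_eq_mul, col_apply, Matrix.sub_apply] at this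
    rw [Matrix.add_apply, vecMulVec_apply, mul_comm, this, add_sub_cancel]

end Cfsg.Lib.Classical.TensorMax
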