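import Cfsg.Agent.Classical.TensorMax.Rad

/-! A group whose radical is only the root group preserves the set of pure tensors. -/

set_option autoImplicit false
set_option linter.unusedSectionVars false
set_option linter.unusedSimpArgs false
set_option linter.unusedVariables false
set_option linter.style.haveILetI false

namespace Cfsg.Lib.Classical.TensorMax

open Matrix Finset
open scoped Kronecker MatrixGroups

universe u

variable {α β : Type} [Fintype α] [DecidableEq α] [Fintype β] [DecidableEq β] [Nonempty α] [Nonempty β]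
  {F : Type u} [Field F] {X : Subgroup (GL (α × β) F)}

/-- All radical elements of `X` at `j₀` have scalar blocks. -/
def RadScalar (X : Subgroup (GL (α × β) F)) (j₀ : β) : Prop :=
  ∀ Y : β → Matrix α α F, InK X j₀ Y → ∀ m, m ≠ j₀ → ∃ c : F, Y m = c • (1 : Matrix α α F)

theorem IsKron.inv {g : GL (α × β) F} (hg : IsKron g) : IsKron g⁻¹ := by
  obtain ⟨a, b, h⟩ := hg
  refine ⟨a⁻¹, b⁻¹, ?_⟩
  rw [Matrix.coe_units_inv g, h]
  refine Matrix.inv_eq_right_inv ?_
  rw [← mul_kronecker_mul, ← Units.val_mul, ← Units.val_mul, mul_inv_cancel, mul_inv_cancel, Units.val_one,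
    Units.val_one, one_kronecker_one]

theorem det_inv_eq {g : GL (α × β) F} (h : (g : Matrix (α × β) (α × β) F).det = 1) :
    ((g⁻¹ : GL (α × β) F) : Matrix (α × β) (α × β) F).det = 1 := by
  have e : (g : Matrix (α × β) (α × β) F).det * ((g⁻¹ : GL (α × β) F) : Matrix (α × β) (α × β) F).det = 1 := by
    rw [← det_mul, ← Units.val_mul, mul_inv_cancel, Units.val_one, det_one]
  rwa [h, one_mul] at e

/-- The Kronecker products of determinant one. -/
def kronSL (α β : Type) [Fintype α] [DecidableEq α] [Fintype β] [DecidableEq β] [Nonempty α] [Nonempty β]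
    (F : Type u) [Field F] : Subgroup (GL (α × β) F) where
  carrier := {g | IsKron g ∧ (g : Matrix (α × β) (α × β) F).det = 1}
  one_mem' := ⟨isKron_of_mat 1 1 1 (by rw [one_kronecker_one, Units.val_one]), by rw [Units.val_one, det_one]⟩
  mul_mem' {g h} hg hh := ⟨hg.1.mul hh.1, by rw [Units.val_mul, det_mul, hg.2, hh.2, one_mul]⟩
  inv_mem' {g} hg := ⟨hg.1.inv, det_inv_eq hg.2⟩

theorem kronSL_le (hX : Over X) : kronSL α β F ≤ X := fun g hg => hX.kron g hg.1 hg.2

/-- A block of a matrix preserving `U ⊗ e`. -/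
def block (g : Matrix (α × β) (α × β) F) (k n : β) : Matrix α α F := Matrix.of fun i l => g (i, k) (l, n)

theorem block_apply (g : Matrix (α × β) (α × β) F) (k n : β) (i l : α) : block g k n i l = g (i, k) (l, n) := rfl

theorem block_mul (g h : Matrix (α × β) (α × β) F) (k n : β) : block (g * h) k n = ∑ t, block g k t * block h t n := by
  ext i l
  rw [Matrix.sum_apply, block_apply, Matrix.mul_apply, Fintype.sum_prod_type, Finset.sum_comm]
  rfl

theorem block_rad (j₀ : β) (Y : β → Matrix α α F) (k n : β) :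
    block (rad j₀ Y) k n = if k = j₀ ∧ n ≠ j₀ then Y n else 0 := by
  ext i l
  rw [block_apply, rad_apply]
  split <;> rfl

theorem block_kron (a : Matrix α α F) (b : Matrix β β F) (k n : β) : block (a ⊗ₖ b) k n = b k n • a := by
  ext i l
  rw [block_apply, kroneckerMap_apply, Matrix.smul_apply, smul_eq_mul, mul_comm]

theorem block_one (k n : β) : block (1 : Matrix (α × β) (α × β) F) k n = if k = n then (1 : Matrix α α F) else 0 := by
  ext i l
  rw [block_apply]
  by_cases h : k = n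
  · subst h; rw [if_pos rfl]; by_cases hi : i = l <;> simp [hi, one_apply]
  · rw [if_neg h, one_apply_ne (fun e => h (congrArg Prod.snd e)), Matrix.zero_apply]

theorem ext_block {g h : Matrix (α × β) (α × β) F} (e : ∀ k n, block g k n = block h k n) : g = h :=
  Matrix.ext fun x y => congrFun (congrFun (e x.2 y.2) x.1) y.1

theorem block_col_of_stab {j₀ : β} {g : Matrix (α × β) (α × β) F}
    (hg : ∀ v : α → F, ∃ v', g *ᵥ pure v (Pi.single j₀ 1) = pure v' (Pi.single j₀ 1)) {k : β} (hk : k ≠ j₀) :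
    block g k j₀ = 0 := by
  ext i l
  obtain ⟨v', e⟩ := hg (Pi.single l 1)
  rw [pure_single, mulVec_single_one] at e
  have := congrFun e (i, k)
  rw [col_apply, pure_apply, Pi.single_eq_of_ne hk, mul_zero] at this
  rw [block_apply, this, Matrix.zero_apply]

theorem stab_inv {j₀ : β} {g : GL (α × β) F}
    (hg : ∀ v : α → F, ∃ v', (g : Matrix (α × β) (α × β) F) *ᵥ pure v (Pi.single j₀ 1) = pure v' (Pi.single j₀ 1)) :
    ∀ v : α → F, ∃ v',
      ((g⁻¹ : GL (α × β) F) : Matrix (α × β) (α × β) F) *ᵥ pure v (Pi.single j₀ 1) = pure v' (Pi.single j₀ 1) := by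
  choose f hf using hg
  have hw : (Pi.single j₀ (1 : F) : β → F) ≠ 0 := by simp
  let L : (α → F) →ₗ[F] (α → F) :=
    { toFun := f
      map_add' := fun a b => pureL_injective hw (by
        change pure (f (a + b)) _ = pure (f a + f b) _
        rw [← hf, pure_add_left, mulVec_add, hf, hf, pure_add_left])
      map_smul' := fun c a => pureL_injective hw (by
        change pure (f (c • a)) _ = pure (c • f a) _
        rw [← hf, pure_smul_left, mulVec_smul, hf, pure_smul_left]) }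
  have hinj : Function.Injective L := by
    rw [← LinearMap.ker_eq_bot, LinearMap.ker_eq_bot']
    intro a ha
    have h1 := hf a
    rw [show f a = 0 from ha, pure_zero_left] at h1
    by_contra ha0
    exact LinOne.GL_ne_zero_mulVec g (pure_ne_zero ha0 hw) h1
  intro v
  obtain ⟨a, ha⟩ := LinearMap.injective_iff_surjective.mp hinj v
  refine ⟨a, ?_⟩
  rw [show v = f a from ha.symm, ← hf, mulVec_mulVec, ← Units.val_mul, inv_mul_cancel, Units.val_one, one_mulVec]

/-- In the scalar case the stabiliser of `U ⊗ e` consists of Kronecker products. -/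
theorem kron_of_stab (hX : Over X) {j₀ : β} (hA : RadScalar X j₀) {g : GL (α × β) F} (hgX : g ∈ X)
    (hg : ∀ v : α → F, ∃ v', (g : Matrix (α × β) (α × β) F) *ᵥ pure v (Pi.single j₀ 1) = pure v' (Pi.single j₀ 1)) :
    IsKron g := by
  classical
  set G : Matrix (α × β) (α × β) F := (g : Matrix (α × β) (α × β) F) with hG
  set H : Matrix (α × β) (α × β) F := ((g⁻¹ : GL (α × β) F) : Matrix (α × β) (α × β) F) with hH
  have hG0 : ∀ k, k ≠ j₀ → block G k j₀ = 0 := fun k hk => block_col_of_stab hg hk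
  have hH0 : ∀ k, k ≠ j₀ → block H k j₀ = 0 := fun k hk => block_col_of_stab (stab_inv hg) hk
  have hGH : G * H = 1 := by rw [hG, hH, ← Units.val_mul, mul_inv_cancel, Units.val_one]
  set A := block G j₀ j₀ with hAdef
  set A' := block H j₀ j₀ with hA'def
  have hAA : A * A' = 1 := by
    have := congrArg (fun M => block M j₀ j₀) hGH
    rw [block_mul, Finset.sum_eq_single j₀ (fun t _ ht => by rw [hH0 t ht, mul_zero])
      (fun h => absurd (mem_univ _) h), block_one, if_pos rfl] at this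
    exact this
  have hA'A : A' * A = 1 := mul_eq_one_comm.mp hAA
  have hd : ∀ m, m ≠ j₀ → ∀ n, n ≠ j₀ → ∃ d : F, block H m n = d • A' := by
    intro m hm n hn
    obtain ⟨r, hr, e⟩ := InK.scalar (X := X) (j₀ := j₀) hX (Pi.single m 1)
    have hconj : InK X j₀ (fun n => A * block H m n) := by
      refine ⟨g * r * g⁻¹, mul_mem (mul_mem hgX hr) (inv_mem hgX), ?_⟩
      rw [Units.val_mul, Units.val_mul, e, ← hG, ← hH, mul_add, mul_one, add_mul, hGH]
      congr 1
      refine ext_block fun k n => ?_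
      rw [block_mul, block_rad]
      have hin : ∀ t, block (G * rad j₀ (fun x => (Pi.single m (1 : F) : β → F) x • (1 : Matrix α α F))) k t =
          if t ≠ j₀ then (Pi.single m (1 : F) : β → F) t • block G k j₀ else 0 := by
        intro t
        rw [block_mul, Finset.sum_eq_single j₀ (fun s _ hs => by rw [block_rad, if_neg (fun h => hs h.1), mul_zero])
          (fun h => absurd (mem_univ _) h), block_rad]
        by_cases ht : t = j₀
        · rw [if_neg (fun h => h.2 ht), if_neg (not_not.mpr ht), mul_zero]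
        · rw [if_pos ⟨rfl, ht⟩, if_pos ht, mul_smul_comm, mul_one]
      rw [Finset.sum_eq_single m (fun t _ ht => ?_) (fun h => absurd (mem_univ _) h), hin m, if_pos hm,
        Pi.single_eq_same, one_smul]
      · by_cases hk : k = j₀
        · subst hk
          by_cases hn : n = k
          · subst hn; rw [if_neg (fun h => h.2 rfl), hH0 m hm, mul_zero]
          · rw [if_pos ⟨rfl, hn⟩]
        · rw [if_neg (fun h => hk h.1), hG0 k hk, zero_mul]
      · rw [hin t, Pi.single_eq_of_ne ht]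
        split <;> simp
    obtain ⟨d, hd⟩ := hA _ hconj n hn
    exact ⟨d, by rw [← one_mul (block H m n), ← hA'A, mul_assoc, hd, mul_smul_comm, mul_one]⟩
  choose d hd using hd
  let D : Matrix β β F := Matrix.of fun m n =>
    if hm : m = j₀ then (if n = j₀ then 1 else 0) else (if hn : n = j₀ then 0 else d m hm n hn)
  let Y : β → Matrix α α F := fun n => A * block H j₀ n
  have hdec : H = A' ⊗ₖ D * (1 + rad j₀ Y) := by
    refine ext_block fun k n => ?_
    rw [block_mul, Finset.sum_congr rfl fun t _ => by rw [show block (1 + rad j₀ Y) t n =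
      block (1 : Matrix (α × β) (α × β) F) t n + block (rad j₀ Y) t n from rfl, mul_add], Finset.sum_add_distrib]
    have h1 : ∑ t, block (A' ⊗ₖ D) k t * block (1 : Matrix (α × β) (α × β) F) t n = D k n • A' := by
      rw [Finset.sum_eq_single n (fun t _ ht => by rw [block_one, if_neg ht, mul_zero])
        (fun h => absurd (mem_univ _) h), block_one, if_pos rfl, mul_one, block_kron]
    have h2 : ∑ t, block (A' ⊗ₖ D) k t * block (rad j₀ Y) t n = if n = j₀ then 0 else D k j₀ • (A' * Y n) := by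
      rw [Finset.sum_eq_single j₀ (fun t _ ht => by rw [block_rad, if_neg (fun h => ht h.1), mul_zero])
        (fun h => absurd (mem_univ _) h), block_kron, block_rad]
      by_cases hn : n = j₀
      · rw [if_neg (fun h => h.2 hn), if_pos hn, mul_zero]
      · rw [if_pos ⟨rfl, hn⟩, if_neg hn, smul_mul_assoc]
    rw [h1, h2]
    by_cases hk : k = j₀
    · subst hk
      by_cases hn : n = k
      · subst hn; simp [D, hA'def]
      · simp [D, Y, hn, ← mul_assoc, hA'A]
    · by_cases hn : n = j₀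
      · subst hn; simp [D, hk, hH0 k hk]
      · simp [D, hk, hn, ← hd k hk n hn]
  have hHdet : H.det = 1 := det_inv_eq (hX.det g hgX)
  have hu : (A' ⊗ₖ D).det = 1 := by
    rw [hdec, det_mul, det_one_add_rad, mul_one] at hHdet
    exact hHdet
  let u : GL (α × β) F := Matrix.GeneralLinearGroup.mkOfDetNeZero (A' ⊗ₖ D) (by rw [hu]; exact one_ne_zero)
  have huk : IsKron u := isKron_of_mat u A' D rfl
  have huX : u ∈ X := hX.kron u huk hu
  have huinv : ((u⁻¹ * g⁻¹ : GL (α × β) F) : Matrix (α × β) (α × β) F) = 1 + rad j₀ Y := by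
    rw [Units.val_mul, ← hH, hdec, ← mul_assoc,
      show A' ⊗ₖ D = (u : Matrix (α × β) (α × β) F) from rfl, ← Units.val_mul, inv_mul_cancel, Units.val_one, one_mul]
  have hK : InK X j₀ Y := ⟨u⁻¹ * g⁻¹, mul_mem (inv_mem huX) (inv_mem hgX), huinv⟩
  choose c hc using hA Y hK
  have hrad : rad j₀ Y = rootMat (α := α) (Pi.single j₀ 1) (fun m => if hm : m = j₀ then 0 else c m hm) := by
    have e : rad j₀ Y = rad j₀ (fun m => (if hm : m = j₀ then 0 else c m hm) • (1 : Matrix α α F)) := by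
      ext ⟨i, k⟩ ⟨l, n⟩
      rw [rad_apply, rad_apply]
      by_cases h : k = j₀ ∧ n ≠ j₀
      · rw [if_pos h, if_pos h, dif_neg h.2, hc n h.2]
      · rw [if_neg h, if_neg h]
    rw [e, rad_scalar]
    congr 1
    funext m
    by_cases hm : m = j₀ <;> simp [hm]
  have hkr : IsKron (u⁻¹ * g⁻¹) :=
    isKron_of_mat _ 1 (1 + vecMulVec (Pi.single j₀ 1) (fun m => if hm : m = j₀ then 0 else c m hm))
      (by rw [huinv, hrad, one_add_rootMat])
  have := (huk.mul hkr).inv
  simpa using this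

theorem exists_kron_moving (hβ : 2 ≤ Fintype.card β) (j₀ : β) {w : β → F} (hw : w ≠ 0) :
    ∃ k ∈ kronSL α β F, ∀ v : α → F, (k : Matrix (α × β) (α × β) F) *ᵥ pure v (Pi.single j₀ 1) = pure v w := by
  obtain ⟨b, hb, e⟩ := exists_sl_mulVec hβ (x := (Pi.single j₀ 1 : β → F)) (by simp) hw
  refine ⟨kronGL 1 b (by rw [det_one]; exact one_ne_zero) (by rw [hb]; exact one_ne_zero),
    ⟨isKron_of_mat _ 1 b rfl, ?_⟩, fun v => ?_⟩
  · rw [kronGL_val, det_kronecker, det_one, hb, one_pow, one_pow, one_mul]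
  · rw [kronGL_val, kron_mulVec_pure, one_mulVec, e]

/-- In the scalar case an element mapping some `U ⊗ w` to some `U ⊗ w'` is a Kronecker product. -/
theorem kron_of_image (hX : Over X) {j₀ : β} (hA : RadScalar X j₀) (hβ : 2 ≤ Fintype.card β) {g : GL (α × β) F}
    (hgX : g ∈ X) {w w' : β → F} (hw : w ≠ 0) (hw' : w' ≠ 0)
    (hg : ∀ v : α → F, ∃ v', (g : Matrix (α × β) (α × β) F) *ᵥ pure v w = pure v' w') : IsKron g := by
  obtain ⟨k₁, hk₁, e₁⟩ := exists_kron_moving (α := α) hβ j₀ hw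
  obtain ⟨k₂, hk₂, e₂⟩ := exists_kron_moving (α := α) hβ j₀ hw'
  have h : IsKron (k₂⁻¹ * g * k₁) := by
    refine kron_of_stab hX hA
      (mul_mem (mul_mem (kronSL_le hX (inv_mem hk₂)) hgX) (kronSL_le hX hk₁)) fun v => ?_
    obtain ⟨v', hv'⟩ := hg v
    refine ⟨v', ?_⟩
    rw [Units.val_mul, Units.val_mul, ← mulVec_mulVec, ← mulVec_mulVec, e₁, hv', ← e₂ v', mulVec_mulVec,
      ← Units.val_mul, inv_mul_cancel, Units.val_one, one_mulVec]
  have := (hk₂.1.mul h).mul hk₁.1.inv
  simpa [mul_assoc] using this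

/-- In the scalar case conjugation between roots is by Kronecker products. -/
theorem kron_of_root_conj (hX : Over X) {j₀ : β} (hA : RadScalar X j₀) (hβ : 2 ≤ Fintype.card β) {g r r' : GL (α × β) F}
    (hgX : g ∈ X) (hr : IsRoot r) (hr' : IsRoot r') (he : g * r = r' * g) : IsKron g := by
  obtain ⟨w, φ, hw, hφ, -, hv⟩ := hr
  obtain ⟨w', φ', hw', -, -, hv'⟩ := hr'
  refine kron_of_image hX hA hβ hgX hw hw' fun v => ?_
  obtain ⟨k, hk⟩ := Function.ne_iff.mp hφ
  simp only [Pi.zero_apply] at hk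
  have hz : φ ⬝ᵥ Pi.single k (φ k)⁻¹ = 1 := by rw [dotProduct_single, mul_inv_cancel₀ hk]
  have hpre : rootMat w φ *ᵥ pure v (Pi.single k (φ k)⁻¹) = pure v w := by
    rw [rootMat_mulVec_pure, hz, one_smul]
  have hm := congrArg Units.val he
  rw [Units.val_mul, Units.val_mul, hv, hv', mul_add, mul_one, add_mul, one_mul] at hm
  refine ⟨fun i => ∑ t, φ' t *
    ((g : Matrix (α × β) (α × β) F) *ᵥ pure v (Pi.single k (φ k)⁻¹)) (i, t), ?_⟩
  rw [← hpre, mulVec_mulVec, add_left_cancel hm, ← mulVec_mulVec, rootMat_mulVec]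

theorem rank_conj_sub_le (g r : GL (α × β) F) :
    (((g * r * g⁻¹ : GL (α × β) F) : Matrix (α × β) (α × β) F) - 1).rank ≤
      ((r : Matrix (α × β) (α × β) F) - 1).rank := by
  have e : ((g * r * g⁻¹ : GL (α × β) F) : Matrix (α × β) (α × β) F) - 1 =
      (g : Matrix (α × β) (α × β) F) * ((r : Matrix (α × β) (α × β) F) - 1) *
        ((g⁻¹ : GL (α × β) F) : Matrix (α × β) (α × β) F) := by
    rw [mul_sub, mul_one, sub_mul, ← Units.val_mul, ← Units.val_mul, ← Units.val_mul, mul_inv_cancel, Units.val_one]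
  rw [e]
  exact (rank_mul_le_left _ _).trans (rank_mul_le_right _ _)

variable [Finite F] {p : ℕ} [Fact p.Prime] [CharP F p]

theorem isRoot_conj (hlt : Fintype.card α < Fintype.card β) {g r : GL (α × β) F} (hr : IsRoot r)
    (hk : IsKron (g * r * g⁻¹)) : IsRoot (g * r * g⁻¹) := by
  let q := ringChar F
  haveI : Fact q.Prime := ⟨CharP.char_is_prime F q⟩
  refine (root_of_small (p := q) hlt hk (s := 1) ?_ ((rank_conj_sub_le g r).trans hr.rank_sub_le)).resolve_left ?_
  · rw [pow_one, conj_pow, hr.pow_char q, mul_one, mul_inv_cancel]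
  · intro h1
    obtain ⟨w, φ, hw, hφ, -, hv⟩ := hr
    rw [conj_eq_one_iff] at h1
    rw [h1, Units.val_one, left_eq_add] at hv
    obtain ⟨k, hk⟩ := Function.ne_iff.mp hφ
    obtain ⟨i₀⟩ := ‹Nonempty α›
    obtain ⟨m, hm⟩ := Function.ne_iff.mp hw
    have := congrFun (congrFun hv (i₀, m)) (i₀, k)
    simp only [rootMat, kroneckerMap_apply, one_apply_eq, vecMulVec_apply, one_mul, Matrix.zero_apply] at this
    exact mul_ne_zero hm hk this

/-- Sylow subgroups of the Kronecker products are maximal `p`-subgroups of `X`. -/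
theorem sylow_maximal (hX : Over X) {j₀ : β} (hA : RadScalar X j₀) (hβ : 2 ≤ Fintype.card β)
    (hlt : Fintype.card α < Fintype.card β) (P : Sylow p (kronSL α β F)) {Q : Subgroup (GL (α × β) F)}
    (hQ : IsPGroup p Q) (hQX : Q ≤ X) (hPQ : (P : Subgroup (kronSL α β F)).map (kronSL α β F).subtype ≤ Q) :
    (P : Subgroup (kronSL α β F)).map (kronSL α β F).subtype = Q := by
  classical
  set P' := (P : Subgroup (kronSL α β F)).map (kronSL α β F).subtype with hP'
  by_contra hne
  haveI : Finite (GL (α × β) F) := inferInstance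
  -- a root in `P'`
  obtain ⟨r, hrP, hr⟩ : ∃ r ∈ P', IsRoot r := by
    obtain ⟨j, hj⟩ := Fintype.exists_ne_of_one_lt_card (α := β) (by omega) j₀
    have h0 : (Pi.single j (1 : F) : β → F) ⬝ᵥ Pi.single j₀ 1 = 0 := by
      rw [single_dotProduct, one_mul, Pi.single_eq_of_ne hj]
    have hroot : IsRoot (rootGL (α := α) _ _ h0) := isRoot_rootGL (by simp) (by simp) h0
    let r₀ : (kronSL α β F) := ⟨rootGL _ _ h0, hroot.isKron, hroot.det⟩
    have hr₀p : IsPGroup p (Subgroup.zpowers r₀) := by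
      refine IsPGroup.of_card (n := 1) ?_
      rw [Nat.card_zpowers, pow_one]
      refine orderOf_eq_prime (Subtype.ext (hroot.pow_char p)) ?_
      intro h
      have h' : rootGL (α := α) _ _ h0 = 1 := congrArg Subtype.val h
      have hv := congrArg Units.val h'
      rw [rootGL_val, Units.val_one, add_eq_left] at hv
      obtain ⟨i₀⟩ := ‹Nonempty α›
      have := congrFun (congrFun hv (i₀, j₀)) (i₀, j)
      simp [rootMat, vecMulVec_apply] at this
    obtain ⟨P₀, hP₀⟩ := hr₀p.exists_le_sylow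
    obtain ⟨c, hc⟩ := MulAction.exists_smul_eq (kronSL α β F) P₀ P
    have hmem : c * r₀ * c⁻¹ ∈ (P : Subgroup (kronSL α β F)) := by
      rw [← hc]
      exact ⟨r₀, hP₀ (Subgroup.mem_zpowers r₀), rfl⟩
    refine ⟨_, ⟨_, hmem, rfl⟩, ?_⟩
    exact isRoot_conj hlt hroot (c * r₀ * c⁻¹).2.1
  -- normalizer condition in `Q`
  haveI : Group.IsNilpotent Q := hQ.isNilpotent
  have hlt' : P'.subgroupOf Q < ⊤ := by
    refine lt_of_le_of_ne le_top fun h => hne (le_antisymm hPQ ?_)
    rwa [Subgroup.subgroupOf_eq_top] at h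
  obtain ⟨x, hxN, hxP⟩ := SetLike.exists_of_lt (normalizerCondition_of_isNilpotent _ hlt')
  have hxX : (x : GL (α × β) F) ∈ X := hQX x.2
  have hconj : ∀ y ∈ P', (x : GL (α × β) F) * y * (x : GL (α × β) F)⁻¹ ∈ P' := by
    intro y hy
    have := (Subgroup.mem_normalizer_iff.mp hxN ⟨y, hPQ hy⟩).mp hy
    exact this
  have hr' : IsRoot ((x : GL (α × β) F) * r * (x : GL (α × β) F)⁻¹) := by
    refine isRoot_conj hlt hr ?_
    obtain ⟨z, -, hz⟩ := hconj r hrP
    rw [← hz]
    exact z.2.1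
  have hxk : IsKron (x : GL (α × β) F) :=
    kron_of_root_conj hX hA hβ hxX hr hr' (by rw [inv_mul_cancel_right])
  -- maximality in the Kronecker group
  have hle : (P : Subgroup (kronSL α β F)) ≤ Q.subgroupOf (kronSL α β F) := fun y hy => hPQ ⟨y, hy, rfl⟩
  have hQM : IsPGroup p (Q.subgroupOf (kronSL α β F)) := fun y => by
    obtain ⟨k, hk⟩ := hQ ⟨(y : (kronSL α β F)), Subgroup.mem_subgroupOf.mp y.2⟩
    refine ⟨k, Subtype.ext (Subtype.ext ?_)⟩
    simpa using congrArg Subtype.val hk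
  have heq := P.is_maximal' hQM hle
  refine hxP ?_
  have hxm : (⟨(x : GL (α × β) F), hxk, hX.det _ hxX⟩ : (kronSL α β F)) ∈ Q.subgroupOf (kronSL α β F) := x.2
  rw [heq] at hxm
  exact ⟨_, hxm, rfl⟩

/-- The set of non-zero pure tensors. -/
def Pures (α β : Type) [Fintype α] [DecidableEq α] [Fintype β] [DecidableEq β] (F : Type u) [Field F] : Set (α × β → F) :=
  {x | ∃ (v : α → F) (w : β → F), v ≠ 0 ∧ w ≠ 0 ∧ pure v w = x}

theorem not_dvd_card_pures : ¬ p ∣ Nat.card (Pures α β F) := by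
  classical
  haveI : Fintype F := Fintype.ofFinite F
  have hrep : ∀ x : Pures α β F, ∃ vw : (α → F) × (β → F), vw.1 ≠ 0 ∧ vw.2 ≠ 0 ∧ pure vw.1 vw.2 = x.1 :=
    fun x => by obtain ⟨v, w, hv, hw, e⟩ := x.2; exact ⟨(v, w), hv, hw, e⟩
  choose rep hrep using hrep
  let f : Pures α β F × Fˣ → {v : α → F // v ≠ 0} × {w : β → F // w ≠ 0} := fun z =>
    (⟨(z.2 : F) • (rep z.1).1, smul_ne_zero z.2.ne_zero (hrep z.1).1⟩,
      ⟨((z.2⁻¹ : Fˣ) : F) • (rep z.1).2, smul_ne_zero (z.2⁻¹).ne_zero (hrep z.1).2.1⟩)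
  have hbij : Function.Bijective f := by
    constructor
    · rintro ⟨x, c⟩ ⟨y, d⟩ h
      have h1 : (c : F) • (rep x).1 = (d : F) • (rep y).1 := congrArg (fun z => (z.1 : α → F)) h
      have h2 : ((c⁻¹ : Fˣ) : F) • (rep x).2 = ((d⁻¹ : Fˣ) : F) • (rep y).2 := congrArg (fun z => (z.2 : β → F)) h
      have hxy : x = y := by
        refine Subtype.ext ?_
        have := congrArg₂ pure h1 h2
        rwa [pure_smul_left, pure_smul_right, pure_smul_left, pure_smul_right, smul_smul, smul_smul, Units.mul_inv,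
          Units.mul_inv, one_smul, one_smul, (hrep x).2.2, (hrep y).2.2] at this
      subst hxy
      rw [smul_left_injective F (hrep x).1 |>.eq_iff] at h1
      exact Prod.ext rfl (Units.ext h1)
    · rintro ⟨⟨v, hv⟩, ⟨w, hw⟩⟩
      let x : Pures α β F := ⟨pure v w, v, w, hv, hw, rfl⟩
      obtain ⟨k, hk⟩ := Function.ne_iff.mp hw
      obtain ⟨i, hi⟩ := Function.ne_iff.mp (hrep x).1
      simp only [Pi.zero_apply] at hk hi
      have e : ∀ a b, (rep x).1 a * (rep x).2 b = v a * w b := fun a b => congrFun (hrep x).2.2 (a, b)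
      have hvi : v = ((rep x).2 k / w k) • (rep x).1 := funext fun a => by
        rw [Pi.smul_apply, smul_eq_mul, div_mul_eq_mul_div, eq_div_iff hk, mul_comm ((rep x).2 k), e]
      have hc : (rep x).2 k / w k ≠ 0 := fun h => hv (by rw [hvi, h, zero_smul])
      refine ⟨(x, Units.mk0 _ hc), Prod.ext (Subtype.ext hvi.symm) (Subtype.ext ?_)⟩
      funext b
      have hb := e i b
      rw [show v i = (rep x).2 k / w k * (rep x).1 i from congrFun hvi i] at hb
      simp only [f, Units.val_inv_eq_inv_val, Units.val_mk0, Pi.smul_apply, smul_eq_mul]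
      rw [inv_mul_eq_iff_eq_mul₀ hc]
      refine mul_left_cancel₀ hi ?_
      linear_combination hb
  have hcard := Nat.card_eq_of_bijective f hbij
  rw [Nat.card_prod, Nat.card_prod] at hcard
  have hnd : ∀ (γ : Type) [Fintype γ] [DecidableEq γ] [Nonempty γ], ¬ p ∣ Nat.card {v : γ → F // v ≠ 0} := by
    intro γ _ _ _ hdvd
    rw [Nat.card_eq_fintype_card, Fintype.card_subtype_compl, Fintype.card_subtype_eq, Fintype.card_fun] at hdvd
    have hq : p ∣ Fintype.card F := by
      obtain ⟨n, -, hn⟩ := FiniteField.card F p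
      rw [hn]
      exact dvd_pow_self p n.pos.ne'
    have h1 : p ∣ Fintype.card F ^ Fintype.card γ := hq.trans (dvd_pow_self _ Fintype.card_ne_zero)
    have hle : 1 ≤ Fintype.card F ^ Fintype.card γ := Nat.one_le_pow _ _ Fintype.card_pos
    have h2 := Nat.dvd_sub h1 hdvd
    rw [Nat.sub_sub_self hle] at h2
    exact (Fact.out : p.Prime).ne_one (Nat.dvd_one.mp h2)
  intro h
  exact ((Fact.out : p.Prime).dvd_mul.mp (hcard ▸ dvd_mul_of_dvd_left h _)).elim (hnd α) (hnd β)

/-- Every non-zero pure tensor is fixed by a Sylow subgroup of the Kronecker products. -/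
theorem exists_sylow_fixing (hα : 2 ≤ Fintype.card α) (hβ : 2 ≤ Fintype.card β) {x : α × β → F}
    (hx : x ∈ Pures α β F) :
    ∃ P : Sylow p (kronSL α β F), ∀ m ∈ (P : Subgroup (kronSL α β F)),
      ((m : GL (α × β) F) : Matrix (α × β) (α × β) F) *ᵥ x = x := by
  classical
  let act : MulAction (kronSL α β F) (Pures α β F) :=
    { smul := fun m y => ⟨((m : GL (α × β) F) : Matrix (α × β) (α × β) F) *ᵥ y.1, by
        obtain ⟨v, w, hv, hw, e⟩ := y.2
        obtain ⟨v', w', e'⟩ := m.2.1.mulVec_pure v w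
        have hne : pure v' w' ≠ 0 := by
          rw [← e']
          exact LinOne.GL_ne_zero_mulVec _ (pure_ne_zero hv hw)
        refine ⟨v', w', fun h => hne (by rw [h, pure_zero_left]), fun h => hne (by rw [h, pure_zero_right]), ?_⟩
        rw [← e, e']⟩
      one_smul := fun y => Subtype.ext (by
        show ((1 : GL (α × β) F) : Matrix (α × β) (α × β) F) *ᵥ y.1 = y.1
        rw [Units.val_one, one_mulVec])
      mul_smul := fun m n y => Subtype.ext (by
        show ((m : GL (α × β) F) * (n : GL (α × β) F) : GL (α × β) F).val *ᵥ y.1 = _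
        rw [Units.val_mul, ← mulVec_mulVec]
        rfl) }
  letI := act
  haveI : Finite (Pures α β F) := inferInstance
  obtain ⟨P⟩ : Nonempty (Sylow p (kronSL α β F)) := inferInstance
  obtain ⟨y, hy⟩ := P.2.nonempty_fixed_point_of_prime_not_dvd_card (Pures α β F) (not_dvd_card_pures (p := p))
  obtain ⟨v, w, hv, hw, e⟩ := y.2
  obtain ⟨v', w', hv', hw', e'⟩ := hx
  obtain ⟨a, ha, hav⟩ := exists_sl_mulVec hα hv hv'
  obtain ⟨b, hb, hbw⟩ := exists_sl_mulVec hβ hw hw'
  let m₀ : (kronSL α β F) := ⟨kronGL a b (by rw [ha]; exact one_ne_zero) (by rw [hb]; exact one_ne_zero),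
    isKron_of_mat _ a b rfl, by rw [kronGL_val, det_kronecker, ha, hb, one_pow, one_pow, one_mul]⟩
  have hm₀ : m₀ • y = ⟨x, v', w', hv', hw', e'⟩ := Subtype.ext (by
    show ((m₀ : GL (α × β) F) : Matrix (α × β) (α × β) F) *ᵥ y.1 = x
    rw [← e, kronGL_val, kron_mulVec_pure, hav, hbw, e'])
  refine ⟨m₀ • P, fun m hm => ?_⟩
  obtain ⟨n, hn, rfl⟩ := hm
  have h1 : (⟨n, hn⟩ : P) • y = y := hy ⟨n, hn⟩
  have h2 : (m₀ * n * m₀⁻¹) • (m₀ • y) = m₀ • y := by
    rw [← mul_smul, inv_mul_cancel_right, mul_smul]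
    exact congrArg (m₀ • ·) h1
  rw [hm₀] at h2
  exact congrArg Subtype.val h2

theorem preimage_pure (hX : Over X) {j₀ : β} (hA : RadScalar X j₀) (hα : 2 ≤ Fintype.card α)
    (hlt : Fintype.card α < Fintype.card β) {g : GL (α × β) F} (hg : g ∈ X) {x : α × β → F}
    (hpure : (g : Matrix (α × β) (α × β) F) *ᵥ x ∈ Pures α β F) : ∃ v w, x = pure v w := by
  classical
  let p := ringChar F
  haveI : Fact p.Prime := ⟨CharP.char_is_prime F p⟩
  set y : α × β → F := (g : Matrix (α × β) (α × β) F) *ᵥ x with hy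
  obtain ⟨w, φ, hw, hφ, h0, hfix⟩ := exists_root_fixing hlt (by omega) x
  set t := rootGL (α := α) w φ h0
  have ht : IsRoot t := isRoot_rootGL hw hφ h0
  have htx : (t : Matrix (α × β) (α × β) F) *ᵥ x = x := by
    rw [rootGL_val, add_mulVec, one_mulVec, hfix, add_zero]
  let H : Subgroup (GL (α × β) F) :=
    { carrier := {h | h ∈ X ∧ (h : Matrix (α × β) (α × β) F) *ᵥ y = y}
      one_mem' := ⟨one_mem X, by rw [Units.val_one, one_mulVec]⟩
      mul_mem' := fun {a b} ha hb => ⟨mul_mem ha.1 hb.1, by rw [Units.val_mul, ← mulVec_mulVec, hb.2, ha.2]⟩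
      inv_mem' := fun {a} ha => ⟨inv_mem ha.1, by
        conv_lhs => rw [← ha.2]
        rw [mulVec_mulVec, ← Units.val_mul, inv_mul_cancel, Units.val_one, one_mulVec]⟩ }
  have hkey : (((g * t * g⁻¹ : GL (α × β) F)) : Matrix (α × β) (α × β) F) *ᵥ y = y := by
    rw [hy, mulVec_mulVec, ← Units.val_mul, inv_mul_cancel_right, Units.val_mul, ← mulVec_mulVec, htx]
  let s : H := ⟨g * t * g⁻¹, mul_mem (mul_mem hg (hX.kron t ht.isKron ht.det)) (inv_mem hg), hkey⟩
  have hsp : IsPGroup p (Subgroup.zpowers s) := by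
    have hpow : s ^ p = 1 := Subtype.ext (by
      show (g * t * g⁻¹) ^ p = 1
      rw [conj_pow, ht.pow_char p, mul_one, mul_inv_cancel])
    rintro ⟨z, k, rfl⟩
    refine ⟨1, Subtype.ext ?_⟩
    show (s ^ k) ^ p ^ 1 = 1
    rw [pow_one, ← zpow_natCast, ← _root_.zpow_mul, mul_comm, _root_.zpow_mul, zpow_natCast, hpow, _root_.one_zpow]
  obtain ⟨S₁, hS₁⟩ := hsp.exists_le_sylow
  obtain ⟨P, hP⟩ := exists_sylow_fixing (p := p) hα (by omega) hpure
  set P' := (P : Subgroup (kronSL α β F)).map (kronSL α β F).subtype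
  have hP'H : P' ≤ H := by
    rintro _ ⟨m, hm, rfl⟩
    exact ⟨kronSL_le hX m.2, hP m hm⟩
  have hP'p : IsPGroup p (P'.subgroupOf H) :=
    (P.2.map (kronSL α β F).subtype).of_equiv (Subgroup.subgroupOfEquivOfLe hP'H).symm
  obtain ⟨S₂, hS₂⟩ := hP'p.exists_le_sylow
  have hS₂eq : P' = (S₂ : Subgroup H).map H.subtype := by
    refine sylow_maximal hX hA (by omega) hlt P (S₂.2.map _) ?_ ?_
    · rintro _ ⟨z, -, rfl⟩
      exact z.2.1
    · intro z hz
      exact ⟨⟨z, hP'H hz⟩, hS₂ hz, rfl⟩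
  obtain ⟨h, hh⟩ := MulAction.exists_smul_eq H S₁ S₂
  have hmem : ((h * s * h⁻¹ : H) : GL (α × β) F) ∈ P' := by
    rw [hS₂eq, ← hh]
    exact ⟨_, ⟨s, hS₁ (Subgroup.mem_zpowers s), rfl⟩, rfl⟩
  obtain ⟨z, -, hz⟩ := hmem
  set c := (h : GL (α × β) F) * g with hc
  have hconj : (z : GL (α × β) F) = c * t * c⁻¹ := by
    show (kronSL α β F).subtype z = _
    rw [hz, hc]
    show (h : GL (α × β) F) * (g * t * g⁻¹) * (h : GL (α × β) F)⁻¹ = _
    group
  have hroot : IsRoot (c * t * c⁻¹) := isRoot_conj hlt ht (hconj ▸ z.2.1)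
  have hck : IsKron c :=
    kron_of_root_conj hX hA (by omega) (mul_mem h.2.1 hg) ht hroot (by rw [inv_mul_cancel_right])
  have hcx : (c : Matrix (α × β) (α × β) F) *ᵥ x = y := by
    rw [hc, Units.val_mul, ← mulVec_mulVec, ← hy]
    exact h.2.2
  obtain ⟨v₀, w₀, -, -, e₀⟩ := hpure
  obtain ⟨v₁, w₁, e₁⟩ := hck.inv.mulVec_pure v₀ w₀
  refine ⟨v₁, w₁, ?_⟩
  rw [← e₁, e₀, ← hcx, mulVec_mulVec, ← Units.val_mul, inv_mul_cancel, Units.val_one, one_mulVec]

theorem pure_space {γ : Type} (L : (γ → F) →ₗ[F] (α × β → F)) (hL : ∀ x, ∃ v w, L x = pure v w) :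
    (∃ w : β → F, ∀ x, ∃ v, L x = pure v w) ∨ ∃ v : α → F, ∀ x, ∃ w, L x = pure v w := by
  by_cases h0 : ∀ x, L x = 0
  · exact Or.inl ⟨0, fun x => ⟨0, by rw [h0 x, pure_zero_left]⟩⟩
  push Not at h0
  obtain ⟨x₀, hx₀⟩ := h0
  obtain ⟨v₀, w₀, e₀⟩ := hL x₀
  have hv₀ : v₀ ≠ 0 := fun h => hx₀ (by rw [e₀, h, pure_zero_left])
  have hw₀ : w₀ ≠ 0 := fun h => hx₀ (by rw [e₀, h, pure_zero_right])
  by_contra hh
  rw [not_or] at hh
  obtain ⟨hW, hV⟩ := hh
  push Not at hW hV
  obtain ⟨x₁, hx₁⟩ := hW w₀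
  obtain ⟨x₂, hx₂⟩ := hV v₀
  obtain ⟨v₁, w₁, e₁⟩ := hL x₁
  obtain ⟨v₂, w₂, e₂⟩ := hL x₂
  have sum : ∀ x y : γ → F, ∀ v w v' w', L x = pure v w → L y = pure v' w' → ∃ v'' w'', pure v w + pure v' w' = pure v'' w'' := by
    intro x y v w v' w' ex ey
    obtain ⟨v'', w'', e⟩ := hL (x + y)
    exact ⟨v'', w'', by rw [← ex, ← ey, ← map_add, e]⟩
  have hv₁ : v₁ ≠ 0 := fun h => hx₁ 0 (by rw [e₁, h, pure_zero_left, pure_zero_left])
  have hw₁ : ∀ c : F, w₁ ≠ c • w₀ := fun c hc => hx₁ (c • v₁) (by rw [e₁, hc, pure_smul_right, pure_smul_left])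
  have hw₂0 : w₂ ≠ 0 := fun h => hx₂ 0 (by rw [e₂, h, pure_zero_right, pure_zero_right])
  have hv₂ : ∀ c : F, v₂ ≠ c • v₀ := fun c hc => hx₂ (c • w₂) (by rw [e₂, hc, pure_smul_left, pure_smul_right])
  obtain ⟨_, _, s01⟩ := sum x₀ x₁ v₀ w₀ v₁ w₁ e₀ e₁
  obtain ⟨_, _, s02⟩ := sum x₀ x₂ v₀ w₀ v₂ w₂ e₀ e₂
  obtain ⟨_, _, s12⟩ := sum x₁ x₂ v₁ w₁ v₂ w₂ e₁ e₂
  obtain ⟨c, hc⟩ : ∃ c : F, v₁ = c • v₀ := (shared_of_sum hv₀ hw₀ s01).resolve_right fun ⟨c, hc⟩ => hw₁ c hc
  obtain ⟨d, hd⟩ : ∃ d : F, w₂ = d • w₀ := (shared_of_sum hv₀ hw₀ s02).resolve_left fun ⟨c, hc⟩ => hv₂ c hc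
  rcases shared_of_sum hv₁ (fun h => hw₁ 0 (by rw [h, zero_smul])) s12 with ⟨e, he⟩ | ⟨e, he⟩
  · exact hv₂ (e * c) (by rw [he, hc, smul_smul])
  · have he0 : e ≠ 0 := by rintro rfl; exact hw₂0 (by rw [he, zero_smul])
    refine hw₁ (e⁻¹ * d) ?_
    rw [mul_smul, ← hd, he, smul_smul, inv_mul_cancel₀ he0, one_smul]

/-- In the scalar case every element is a Kronecker product. -/
theorem kron_of_radScalar (hX : Over X) {j₀ : β} (hA : RadScalar X j₀) (hα : 2 ≤ Fintype.card α)
    (hlt : Fintype.card α < Fintype.card β) {g : GL (α × β) F} (hg : g ∈ X) : IsKron g := by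
  classical
  set G : Matrix (α × β) (α × β) F := (g : Matrix (α × β) (α × β) F) with hG
  have hinj : ∀ z, G *ᵥ z = 0 → z = 0 := fun z hz => by
    by_contra h
    exact LinOne.GL_ne_zero_mulVec g h hz
  have himg : ∀ v w, ∃ v' w', G *ᵥ pure v w = pure v' w' := by
    intro v w
    by_cases h : pure v w = 0
    · exact ⟨0, 0, by rw [h, mulVec_zero, pure_zero_left]⟩
    refine preimage_pure hX hA hα hlt (inv_mem hg) ?_
    rw [hG, mulVec_mulVec, ← Units.val_mul, inv_mul_cancel, Units.val_one, one_mulVec]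
    exact ⟨v, w, fun e => h (by rw [e, pure_zero_left]), fun e => h (by rw [e, pure_zero_right]), rfl⟩
  have he₀ : (Pi.single j₀ (1 : F) : β → F) ≠ 0 := by simp
  obtain ⟨i₀⟩ := ‹Nonempty α›
  let L : (α → F) →ₗ[F] (α × β → F) := G.mulVecLin.comp (pureL (Pi.single j₀ 1))
  rcases pure_space L (fun v => himg v _) with ⟨w', hw'⟩ | ⟨v', hv'⟩
  · refine kron_of_image hX hA (by omega) hg he₀ ?_ (fun v => hw' v)
    rintro rfl
    obtain ⟨v, hv⟩ := hw' (Pi.single i₀ 1)
    change G *ᵥ pure (Pi.single i₀ 1) (Pi.single j₀ 1) = pure v 0 at hv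
    rw [pure_zero_right] at hv
    exact pure_ne_zero (by simp) he₀ (hinj _ hv)
  exfalso
  have hv'0 : v' ≠ 0 := by
    rintro rfl
    obtain ⟨v, hv⟩ := hv' (Pi.single i₀ 1)
    change G *ᵥ pure (Pi.single i₀ 1) (Pi.single j₀ 1) = pure 0 v at hv
    rw [pure_zero_left] at hv
    exact pure_ne_zero (by simp) he₀ (hinj _ hv)
  obtain ⟨i₁, hi₁⟩ := Fintype.exists_ne_of_one_lt_card (α := α) (by omega) i₀
  let T : (β → F) →ₗ[F] (α × β → F) := G.mulVecLin.comp (pureR (Pi.single i₀ 1))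
  have hTinj : ∀ z, T z = 0 → z = 0 := fun z hz =>
    pureR_injective (show (Pi.single i₀ (1 : F) : α → F) ≠ 0 by simp)
      ((hinj _ hz).trans (map_zero (pureR (β := β) (Pi.single i₀ (1 : F) : α → F))).symm)
  obtain ⟨z₁, hz₁⟩ := hv' (Pi.single i₀ 1)
  change G *ᵥ pure (Pi.single i₀ 1) (Pi.single j₀ 1) = pure v' z₁ at hz₁
  have hz₁0 : z₁ ≠ 0 := by
    rintro rfl
    rw [pure_zero_right] at hz₁
    exact pure_ne_zero (by simp) he₀ (hinj _ hz₁)
  rcases pure_space T (fun z => himg _ z) with ⟨w'', hw''⟩ | ⟨v'', hv''⟩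
  · have hle : LinearMap.range T ≤ LinearMap.range (pureL (α := α) w'') := by
      rintro _ ⟨z, rfl⟩
      obtain ⟨v, hv⟩ := hw'' z
      exact ⟨v, hv.symm⟩
    have h1 := (Submodule.finrank_mono hle).trans (LinearMap.finrank_range_le _)
    rw [LinearMap.finrank_range_of_inj (by
      rw [← LinearMap.ker_eq_bot, LinearMap.ker_eq_bot']; exact hTinj), Module.finrank_pi, Module.finrank_pi] at h1
    omega
  · obtain ⟨s, hs⟩ := hv'' (Pi.single j₀ 1)
    change G *ᵥ pure (Pi.single i₀ 1) (Pi.single j₀ 1) = pure v'' s at hs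
    rw [hz₁] at hs
    obtain ⟨k, hk⟩ := Function.ne_iff.mp hz₁0
    simp only [Pi.zero_apply] at hk
    have hv''eq : v' = (s k / z₁ k) • v'' := funext fun a => by
      have := congrFun hs (a, k)
      rw [pure_apply, pure_apply] at this
      rw [Pi.smul_apply, smul_eq_mul, div_mul_eq_mul_div, eq_div_iff hk, this, mul_comm]
    have hle : LinearMap.range T ≤ LinearMap.range (pureR (β := β) v'') := by
      rintro _ ⟨z, rfl⟩
      obtain ⟨w, hw⟩ := hv'' z
      exact ⟨w, hw.symm⟩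
    have heq : LinearMap.range T = LinearMap.range (pureR (β := β) v'') := by
      refine Submodule.eq_of_le_of_finrank_le hle ((LinearMap.finrank_range_le _).trans ?_)
      rw [LinearMap.finrank_range_of_inj (by
        rw [← LinearMap.ker_eq_bot, LinearMap.ker_eq_bot']; exact hTinj)]
    obtain ⟨z₂, hz₂⟩ := hv' (Pi.single i₁ 1)
    change G *ᵥ pure (Pi.single i₁ 1) (Pi.single j₀ 1) = pure v' z₂ at hz₂
    have hmem : pure v' z₂ ∈ LinearMap.range T := by
      rw [heq]
      exact ⟨(s k / z₁ k) • z₂, by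
        show pure v'' _ = _
        rw [hv''eq, pure_smul_left, pure_smul_right]⟩
    obtain ⟨z, hz⟩ := hmem
    change G *ᵥ pure (Pi.single i₀ 1) z = pure v' z₂ at hz
    rw [← hz₂] at hz
    have hsame := sub_eq_zero.mp (hinj (pure (Pi.single i₀ 1) z - pure (Pi.single i₁ 1) (Pi.single j₀ 1))
      (by rw [mulVec_sub, hz, sub_self]))
    have := congrFun hsame (i₁, j₀)
    rw [pure_apply, pure_apply, Pi.single_eq_of_ne hi₁, zero_mul, Pi.single_eq_same, Pi.single_eq_same, one_mul] at this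
    exact zero_ne_one this

end Cfsg.Lib.Classical.TensorMax
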